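import Cfsg.Agent.Lib.PLocal.Thompson
import Cfsg.Agent.Lib.PLocal.GlaubermanReplacement
import Cfsg.Agent.Lib.Solvable.Core
import Cfsg.Prelude.Def_LocalEven

/-!
# The normal subgroups excluded in E-groups
-/

set_option autoImplicit false
set_option linter.style.haveILetI false
set_option maxHeartbeats 400000

namespace CfsgLib.TwoFact

open Subgroup
open scoped commutatorElement

variable {G : Type*} [Group G]

/-- `V` is normalised by `S`, elementary abelian, and has neither small centralised quotient nor small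
commutator with any elementary abelian image of a subgroup of `S` (the condition of E-groups). -/
structure Bad (S V : Subgroup G) : Prop where
  le : V ≤ S
  ea : Cfsg.IsElementaryAbelian 2 V
  norm : S ≤ normalizer (V : Set G)
  large : ∀ R : Subgroup G, R ≤ S → ⁅R, R⁆ ≤ centralizer (V : Set G) →
    (∀ r ∈ R, r ^ 2 ∈ centralizer (V : Set G)) → ¬ R ≤ centralizer (V : Set G) →
      Nat.card R ^ 3 * Nat.card ↥(V ⊓ centralizer (R : Set G)) ^ 2 <
          Nat.card V ^ 2 * Nat.card ↥(R ⊓ centralizer (V : Set G)) ^ 3 ∧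
        Nat.card R < Nat.card ↥⁅V, R⁆ * Nat.card ↥(R ⊓ centralizer (V : Set G))

theorem map_inf_centralizer {H : Type*} [Group H] {f : G →* H} (hf : Function.Injective f)
    (R V : Subgroup G) :
    R.map f ⊓ centralizer (V.map f : Set H) = (R ⊓ centralizer (V : Set G)).map f := by
  ext y
  constructor
  · rintro ⟨⟨x, hx, rfl⟩, hy⟩
    exact ⟨x, ⟨hx, fun v hv => hf (by rw [map_mul, map_mul]; exact hy (f v) ⟨v, hv, rfl⟩)⟩, rfl⟩
  · rintro ⟨x, ⟨hx, hxc⟩, rfl⟩
    refine ⟨⟨x, hx, rfl⟩, ?_⟩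
    rintro _ ⟨v, hv, rfl⟩
    rw [← map_mul, ← map_mul, hxc v hv]

theorem centralizer_map_le {H : Type*} [Group H] {f : G →* H} (hf : Function.Injective f)
    {X V : Subgroup G} : X.map f ≤ centralizer (V.map f : Set H) ↔ X ≤ centralizer (V : Set G) := by
  rw [← inf_eq_left, map_inf_centralizer hf, (map_injective hf).eq_iff, inf_eq_left]

theorem bad_map_iff {H : Type*} [Group H] {f : G →* H} (hf : Function.Injective f) {S V : Subgroup G} :
    Bad (S.map f) (V.map f) ↔ Bad S V := by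
  have hcard : ∀ X : Subgroup G, Nat.card ↥(X.map f) = Nat.card X := fun X =>
    (Nat.card_congr (X.equivMapOfInjective f hf).toEquiv).symm
  have hnorm : S.map f ≤ normalizer (V.map f : Set H) ↔ S ≤ normalizer (V : Set G) := by
    rw [le_normalizer_iff, le_normalizer_iff]
    constructor
    · intro h s hs v hv
      have := h (f s) ⟨s, hs, rfl⟩ (f v) ⟨v, hv, rfl⟩
      rw [← map_inv, ← map_mul, ← map_mul] at this
      exact (mem_map_iff_mem hf).1 this
    · rintro h _ ⟨s, hs, rfl⟩ _ ⟨v, hv, rfl⟩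
      exact ⟨_, h s hs v hv, by simp⟩
  have hsq : ∀ R : Subgroup G, (∀ r ∈ R.map f, r ^ 2 ∈ centralizer (V.map f : Set H)) ↔
      ∀ r ∈ R, r ^ 2 ∈ centralizer (V : Set G) := by
    intro R
    constructor
    · intro h r hr v hv
      exact hf (by rw [map_mul, map_mul, map_pow]; exact h (f r) ⟨r, hr, rfl⟩ (f v) ⟨v, hv, rfl⟩)
    · rintro h _ ⟨r, hr, rfl⟩ _ ⟨v, hv, rfl⟩
      rw [← map_pow, ← map_mul, ← map_mul, h r hr v hv]
  constructor
  · intro h
    refine ⟨(map_le_map_iff_of_injective hf).1 h.le, CfsgLib.PLocal.isEA_of_map hf h.ea, hnorm.1 h.norm,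
      fun R hR h1 h2 h3 => ?_⟩
    have := h.large (R.map f) (map_mono hR)
      (by rw [← map_commutator]; exact (centralizer_map_le hf).2 h1) ((hsq R).2 h2)
      (fun h4 => h3 ((centralizer_map_le hf).1 h4))
    rwa [← map_commutator, map_inf_centralizer hf, map_inf_centralizer hf, hcard, hcard, hcard, hcard,
      hcard] at this
  · intro h
    refine ⟨map_mono h.le, CfsgLib.PLocal.isEA_map h.ea f, hnorm.2 h.norm, fun R hR h1 h2 h3 => ?_⟩
    obtain ⟨R', rfl⟩ : ∃ R' : Subgroup G, R'.map f = R :=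
      ⟨R.comap f, map_comap_eq_self (hR.trans (map_le_range f S))⟩
    have := h.large R' ((map_le_map_iff_of_injective hf).1 hR)
      (by rw [← map_commutator] at h1; exact (centralizer_map_le hf).1 h1) ((hsq R').1 h2)
      (fun h4 => h3 ((centralizer_map_le hf).2 h4))
    rwa [← map_commutator, map_inf_centralizer hf, map_inf_centralizer hf, hcard, hcard, hcard, hcard,
      hcard]

theorem Bad.conj {S V : Subgroup G} (h : Bad S V) (g : G) :
    Bad (S.map (MulAut.conj g).toMonoidHom) (V.map (MulAut.conj g).toMonoidHom) :=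
  (bad_map_iff (MulAut.conj g).injective).2 h

theorem Bad.subgroupOf {S V H : Subgroup G} (h : Bad S V) (hSH : S ≤ H) :
    Bad (S.subgroupOf H) (V.subgroupOf H) := by
  rw [← bad_map_iff H.subtype_injective, map_subgroupOf_eq_of_le hSH,
    map_subgroupOf_eq_of_le (h.le.trans hSH)]
  exact h

/-- In `↥T` a bad subgroup for the whole group is what E-groups exclude. -/
theorem isEGroup_subgroup_iff {T : Subgroup G} :
    Cfsg.IsEGroup ↥T ↔ ∀ V : Subgroup G, Bad T V → T ≤ centralizer (V : Set G) := by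
  constructor
  · intro h V hV
    have hb := hV.subgroupOf le_rfl
    rw [subgroupOf_self] at hb
    haveI hn : (V.subgroupOf T).Normal := (normal_subgroupOf_iff_le_normalizer hV.le).2 hV.norm
    have := h _ hn hb.ea fun R h1 h2 h3 => hb.large R le_top h1 h2 h3
    intro t ht v hv
    exact congrArg Subtype.val (mem_center_iff.1 (this (show (⟨v, hV.le hv⟩ : T) ∈ V.subgroupOf T from hv)) ⟨t, ht⟩).symm
  · intro h W hn hW hlarge
    have hb : Bad (⊤ : Subgroup ↥T) W :=
      ⟨le_top, hW, by rw [normalizer_eq_top], fun R _ h1 h2 h3 => hlarge R h1 h2 h3⟩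
    have hb' := (bad_map_iff T.subtype_injective).2 hb
    rw [← MonoidHom.range_eq_map, range_subtype] at hb'
    intro w hw
    refine mem_center_iff.2 fun t => Subtype.ext ?_
    exact (h _ hb' t.2 (w : G) ⟨w, hw, rfl⟩).symm

/-- A bad subgroup is centralised by every elementary abelian subgroup of largest order. -/
theorem Bad.maxEA_le [Finite G] {S V A : Subgroup G} (h : Bad S V)
    (hA : A ∈ CfsgLib.PLocal.maxEAIn 2 S) : A ≤ centralizer (V : Set G) := by
  by_contra hne
  haveI := hA.2.1.1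
  set C := centralizer (V : Set G)
  have h1 : ⁅A, A⁆ ≤ C := by
    rw [(commutator_eq_bot_iff_le_centralizer).2 (le_centralizer_iff_isMulCommutative.2 inferInstance)]
    exact bot_le
  obtain ⟨hb, -⟩ := h.large A hA.1 h1 (fun r hr => by rw [hA.2.1.2 r hr]; exact one_mem _) hne
  set x := Nat.card ↥(V ⊓ centralizer (A : Set G))
  set c := Nat.card ↥(A ⊓ C)
  have hle : A ⊓ C ≤ centralizer (V : Set G) := inf_le_right
  have hmax := hA.2.2 ((A ⊓ C) ⊔ V) (sup_le (inf_le_left.trans hA.1) h.le)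
    (CfsgLib.PLocal.isEA_sup (CfsgLib.PLocal.isEA_mono hA.2.1 inf_le_left) h.ea hle)
  have hcard := CfsgLib.PLoc.card_sup_mul_card_inf (hle.trans (centralizer_le_normalizer _))
  have hi : Nat.card ↥(A ⊓ C ⊓ V) ≤ x := by
    refine card_le_of_le fun y hy => ⟨hy.2, fun a ha => ?_⟩
    exact setLike_mul_comm ha hy.1.1
  have hcV : c * Nat.card V ≤ Nat.card A * x := by
    rw [← hcard]; exact Nat.mul_le_mul hmax hi
  have hc : c ≤ Nat.card A := card_le_of_le inf_le_left
  have := Nat.pow_le_pow_left hcV 2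
  have e1 : Nat.card V ^ 2 * c ^ 3 ≤ Nat.card A ^ 3 * x ^ 2 := by
    calc Nat.card V ^ 2 * c ^ 3 = (c * Nat.card V) ^ 2 * c := by ring
      _ ≤ (Nat.card A * x) ^ 2 * Nat.card A := Nat.mul_le_mul this hc
      _ = _ := by ring
  exact absurd hb (not_lt.2 e1)

theorem Bad.thompson_le [Finite G] {S V : Subgroup G} (h : Bad S V) :
    Cfsg.thompsonSubgroupOf 2 S ≤ centralizer (V : Set G) := by
  rw [CfsgLib.PLocal.thompsonSubgroupOf_eq, sSup_le_iff]
  exact fun A hA => h.maxEA_le hA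

/-- Conjugates of a bad subgroup inside a normal subgroup of `S` commute. -/
theorem Bad.commute_conj [Finite G] {S V Q : Subgroup G} [hQn : Q.Normal] (h : Bad S V)
    (hQS : Q ≤ S) (hVQ : V ≤ Q) (g : G) :
    V.map (MulAut.conj g).toMonoidHom ≤ centralizer (V : Set G) := by
  have hQg : Q.map (MulAut.conj g).toMonoidHom = Q := by
    ext y
    constructor
    · rintro ⟨x, hx, rfl⟩; exact hQn.conj_mem x hx g
    · intro hy; exact ⟨g⁻¹ * y * g, by simpa using hQn.conj_mem y hy g⁻¹, by simp [mul_assoc]⟩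
  set V' := V.map (MulAut.conj g).toMonoidHom
  set S' := S.map (MulAut.conj g).toMonoidHom
  by_contra hne
  have hb := h.conj g
  have hQS' : Q ≤ S' := hQg ▸ map_mono hQS
  have hV'Q : V' ≤ Q := hQg ▸ map_mono hVQ
  have hne' : ¬ V ≤ centralizer (V' : Set G) := fun h' => hne (le_centralizer_iff.1 h')
  have hcomm : ∀ {X Y : Subgroup G}, Cfsg.IsElementaryAbelian 2 X → ⁅X, X⁆ ≤ centralizer (Y : Set G) := by
    intro X Y hX
    haveI := hX.1
    rw [(commutator_eq_bot_iff_le_centralizer).2 (le_centralizer_iff_isMulCommutative.2 inferInstance)]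
    exact bot_le
  obtain ⟨h1, -⟩ := h.large V' (hV'Q.trans hQS) (hcomm hb.ea)
    (fun r hr => by rw [hb.ea.2 r hr]; exact one_mem _) hne
  obtain ⟨h2, -⟩ := hb.large V (hVQ.trans hQS') (hcomm h.ea)
    (fun r hr => by rw [h.ea.2 r hr]; exact one_mem _) hne'
  have hv : Nat.card V' = Nat.card V := (Nat.card_congr (V.equivMapOfInjective _ (MulAut.conj g).injective).toEquiv).symm
  rw [hv] at h1 h2
  set v := Nat.card V
  set c := Nat.card ↥(V ⊓ centralizer (V' : Set G))
  set c' := Nat.card ↥(V' ⊓ centralizer (V : Set G))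
  have hc : c ≤ v := card_le_of_le inf_le_left
  have hc' : c' ≤ v := (card_le_of_le inf_le_left).trans hv.le
  have e : (v ^ 3 * c ^ 2) * (v ^ 3 * c' ^ 2) < (v ^ 2 * c' ^ 3) * (v ^ 2 * c ^ 3) := Nat.mul_lt_mul'' h1 h2
  have e2 : (v ^ 2 * c' ^ 3) * (v ^ 2 * c ^ 3) ≤ (v ^ 3 * c ^ 2) * (v ^ 3 * c' ^ 2) := by
    calc (v ^ 2 * c' ^ 3) * (v ^ 2 * c ^ 3) = (v ^ 4 * c ^ 2 * c' ^ 2) * (c * c') := by ring
      _ ≤ (v ^ 4 * c ^ 2 * c' ^ 2) * (v * v) := Nat.mul_le_mul_left _ (Nat.mul_le_mul hc hc')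
      _ = _ := by ring
  omega

/-- The normal closure of a bad subgroup inside `O_2` is elementary abelian. -/
theorem Bad.normalClosure_ea [Finite G] {S V Q : Subgroup G} [Q.Normal] (h : Bad S V)
    (hQS : Q ≤ S) (hVQ : V ≤ Q) : Cfsg.IsElementaryAbelian 2 (Subgroup.normalClosure (V : Set G)) := by
  have hcomm : ∀ x ∈ Group.conjugatesOfSet (V : Set G), ∀ y ∈ Group.conjugatesOfSet (V : Set G), x * y = y * x := by
    intro x hx y hy
    rw [Group.mem_conjugatesOfSet_iff] at hx hy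
    obtain ⟨a, ha, hxa⟩ := hx
    obtain ⟨b, hb, hyb⟩ := hy
    obtain ⟨g1, rfl⟩ := isConj_iff.1 hxa
    obtain ⟨g2, rfl⟩ := isConj_iff.1 hyb
    have h1 := h.commute_conj hQS hVQ (g1⁻¹ * g2) (x := g1⁻¹ * g2 * b * (g1⁻¹ * g2)⁻¹) ⟨b, hb, rfl⟩ a ha
    calc g1 * a * g1⁻¹ * (g2 * b * g2⁻¹) = g1 * (a * (g1⁻¹ * g2 * b * (g1⁻¹ * g2)⁻¹)) * g1⁻¹ := by group
      _ = _ := by rw [h1]; group
  haveI : IsMulCommutative ↥(Subgroup.normalClosure (V : Set G)) := by
    rw [← le_centralizer_iff_isMulCommutative]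
    show closure (Group.conjugatesOfSet (V : Set G)) ≤ _
    rw [closure_le]
    intro x hx
    show x ∈ centralizer ((closure (Group.conjugatesOfSet (V : Set G)) : Subgroup G) : Set G)
    rw [centralizer_closure]
    exact fun y hy => hcomm y hy x hx
  refine ⟨inferInstance, fun x hx => ?_⟩
  induction hx using closure_induction with
  | mem x hx =>
    obtain ⟨a, ha, hxa⟩ := Group.mem_conjugatesOfSet_iff.1 hx
    obtain ⟨g, rfl⟩ := isConj_iff.1 hxa
    rw [conj_pow, h.ea.2 a ha, mul_one, mul_inv_cancel]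
  | one => simp
  | mul x y hx hy ihx ihy =>
    have hxy : Commute x y := setLike_mul_comm (s := Subgroup.normalClosure (V : Set G)) hx hy
    rw [hxy.mul_pow, ihx, ihy, one_mul]
  | inv x hx ih => rw [inv_pow, ih, inv_one]

/-- Conjugation chains: the strict inequality for the normal closure. -/
theorem Bad.telescope [Finite G] {S V Q : Subgroup G} [hQn : Q.Normal] (h : Bad S V) (hQS : Q ≤ S)
    (hDc : IsMulCommutative ↥(Subgroup.normalClosure (V : Set G)))
    {R : Subgroup G} (hRQ : R ≤ Q)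
    (h1 : ⁅R, R⁆ ≤ centralizer (Subgroup.normalClosure (V : Set G) : Set G))
    (h2 : ∀ r ∈ R, r ^ 2 ∈ centralizer (Subgroup.normalClosure (V : Set G) : Set G))
    (h3 : ¬ R ≤ centralizer (Subgroup.normalClosure (V : Set G) : Set G)) :
    Nat.card R ^ 3 * Nat.card ↥(Subgroup.normalClosure (V : Set G) ⊓ centralizer (R : Set G)) ^ 2 <
      Nat.card ↥(Subgroup.normalClosure (V : Set G)) ^ 2 *
        Nat.card ↥(R ⊓ centralizer (Subgroup.normalClosure (V : Set G) : Set G)) ^ 3 := by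
  set D := Subgroup.normalClosure (V : Set G) with hD
  let P : Subgroup G → Prop := fun X => X ≤ D ∧
    Nat.card R ^ 3 * Nat.card ↥(X ⊓ centralizer (R : Set G)) ^ 2 ≤
      Nat.card X ^ 2 * Nat.card ↥(R ⊓ centralizer (X : Set G)) ^ 3 ∧
    (¬ R ≤ centralizer (X : Set G) →
      Nat.card R ^ 3 * Nat.card ↥(X ⊓ centralizer (R : Set G)) ^ 2 <
        Nat.card X ^ 2 * Nat.card ↥(R ⊓ centralizer (X : Set G)) ^ 3)
  have hbot : R ≤ centralizer ((⊥ : Subgroup G) : Set G) := fun r _ x hx => by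
    rw [mem_bot.1 hx]; group
  obtain ⟨X, hX, hmax⟩ := Set.Finite.exists_maximal (Set.toFinite {X | P X}) ⟨⊥, bot_le, by
    rw [bot_inf_eq, inf_eq_left.2 hbot, card_bot, one_pow, mul_one, one_mul], fun hne => absurd hbot hne⟩
  obtain ⟨hXD, hXle, hXlt⟩ := hX
  suffices hXeq : X = D by
    subst hXeq
    exact hXlt h3
  by_contra hne
  obtain ⟨g, hg⟩ : ∃ g, ¬ V.map (MulAut.conj g).toMonoidHom ≤ X := by
    by_contra! hcon
    refine hne (le_antisymm hXD ?_)
    show closure (Group.conjugatesOfSet (V : Set G)) ≤ X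
    rw [closure_le]
    intro x hx
    obtain ⟨a, ha, hxa⟩ := Group.mem_conjugatesOfSet_iff.1 hx
    obtain ⟨g, rfl⟩ := isConj_iff.1 hxa
    exact hcon g ⟨a, ha, rfl⟩
  set V' := V.map (MulAut.conj g).toMonoidHom
  have hV'D : V' ≤ D := by
    rintro _ ⟨a, ha, rfl⟩
    exact normalClosure_normal.conj_mem a (subset_normalClosure ha) g
  have hb := h.conj g
  set R1 := R ⊓ centralizer (X : Set G)
  set X' := X ⊔ V'
  have hX'D : X' ≤ D := sup_le hXD hV'D
  have hRX' : R ⊓ centralizer (X' : Set G) = R1 ⊓ centralizer (V' : Set G) := by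
    refine le_antisymm (le_inf (le_inf inf_le_left (inf_le_right.trans (centralizer_le (SetLike.coe_subset_coe.2 le_sup_left))))
      (inf_le_right.trans (centralizer_le (SetLike.coe_subset_coe.2 le_sup_right)))) ?_
    refine le_inf (inf_le_left.trans inf_le_left) ?_
    rw [le_centralizer_iff]
    exact sup_le (le_centralizer_iff.1 (inf_le_left.trans inf_le_right)) (le_centralizer_iff.1 inf_le_right)
  set c2 := Nat.card ↥(X' ⊓ centralizer (R : Set G))
  set cX := Nat.card ↥(X ⊓ centralizer (R : Set G))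
  have hXpos : 0 < cX := Nat.card_pos
  -- the part of `X'` centralised by `R` joined with `X`
  have hDle : ∀ {A B : Subgroup G}, A ≤ D → B ≤ D → A ≤ normalizer (B : Set G) := fun hA hB => by
    refine hA.trans (le_trans ?_ (centralizer_le_normalizer _))
    exact (le_centralizer_iff_isMulCommutative.2 hDc).trans (centralizer_le (SetLike.coe_subset_coe.2 hB))
  set Y := (X' ⊓ centralizer (R : Set G)) ⊔ X
  have hXY : Nat.card Y * cX = c2 * Nat.card X := by
    have := CfsgLib.PLoc.card_sup_mul_card_inf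
      (hDle (inf_le_left.trans hX'D : X' ⊓ centralizer (R : Set G) ≤ D) hXD)
    rwa [show X' ⊓ centralizer (R : Set G) ⊓ X = X ⊓ centralizer (R : Set G) from
      le_antisymm (le_inf inf_le_right (inf_le_left.trans inf_le_right))
        (le_inf (inf_le_inf_right _ le_sup_left) inf_le_left)] at this
  have hYX' : Y ≤ X' := sup_le inf_le_left le_sup_left
  have hYR : Y ≤ centralizer (R1 : Set G) :=
    sup_le (inf_le_right.trans (centralizer_le (SetLike.coe_subset_coe.2 inf_le_left)))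
      (le_centralizer_iff.1 inf_le_right)
  set v := Nat.card V'
  set x := Nat.card ↥(V' ⊓ centralizer (R1 : Set G))
  have hYV : Nat.card Y * v ≤ Nat.card X' * x := by
    rw [← CfsgLib.PLoc.card_sup_mul_card_inf (hDle (hYX'.trans hX'D) hV'D)]
    exact Nat.mul_le_mul (card_le_of_le (sup_le hYX' le_sup_right))
      (card_le_of_le (le_inf inf_le_right (inf_le_left.trans hYR)))
  have hkey : Nat.card X * c2 * v ≤ cX * Nat.card X' * x :=
    calc Nat.card X * c2 * v = (Nat.card Y * v) * cX := by rw [mul_comm (Nat.card X), ← hXY]; ring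
      _ ≤ (Nat.card X' * x) * cX := Nat.mul_le_mul_right _ hYV
      _ = _ := by ring
  have hkey2 := Nat.pow_le_pow_left hkey 2
  set RR := Nat.card R ^ 3
  have hlt : ¬ X' ≤ X := fun hle => hg (le_sup_right.trans hle)
  refine hlt (hmax ⟨hX'D, ?_⟩ le_sup_left)
  by_cases hR1 : R1 ≤ centralizer (V' : Set G)
  · have hx : x = v := by
      show Nat.card ↥(V' ⊓ centralizer (R1 : Set G)) = _
      rw [inf_eq_left.2 (le_centralizer_iff.1 hR1)]
    rw [hRX', inf_eq_left.2 hR1]
    rw [hx] at hkey2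
    have h5 : (Nat.card X) ^ 2 * c2 ^ 2 ≤ cX ^ 2 * Nat.card X' ^ 2 :=
      Nat.le_of_mul_le_mul_right (c := v ^ 2)
        (by linarith [hkey2, show (Nat.card X * c2 * v) ^ 2 = (Nat.card X) ^ 2 * c2 ^ 2 * v ^ 2 by ring,
          show (cX * Nat.card X' * v) ^ 2 = cX ^ 2 * Nat.card X' ^ 2 * v ^ 2 by ring]) (pow_pos Nat.card_pos 2)
    refine ⟨(Nat.mul_le_mul_left_iff (show 0 < Nat.card X ^ 2 from pow_pos Nat.card_pos 2)).1 ?_,
      fun hne' => Nat.lt_of_mul_lt_mul_left (a := Nat.card X ^ 2) ?_⟩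
    · calc Nat.card X ^ 2 * (RR * c2 ^ 2) = RR * (Nat.card X ^ 2 * c2 ^ 2) := by ring
        _ ≤ RR * (cX ^ 2 * Nat.card X' ^ 2) := Nat.mul_le_mul_left _ h5
        _ = (RR * cX ^ 2) * Nat.card X' ^ 2 := by ring
        _ ≤ (Nat.card X ^ 2 * Nat.card R1 ^ 3) * Nat.card X' ^ 2 := Nat.mul_le_mul_right _ hXle
        _ = _ := by ring
    · have hXne : ¬ R ≤ centralizer (X : Set G) := fun hRX => hne' (by
        rw [← inf_eq_left, hRX', inf_eq_left.2 hR1]; exact inf_eq_left.2 hRX)
      calc Nat.card X ^ 2 * (RR * c2 ^ 2) = RR * (Nat.card X ^ 2 * c2 ^ 2) := by ring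
        _ ≤ RR * (cX ^ 2 * Nat.card X' ^ 2) := Nat.mul_le_mul_left _ h5
        _ = (RR * cX ^ 2) * Nat.card X' ^ 2 := by ring
        _ < (Nat.card X ^ 2 * Nat.card R1 ^ 3) * Nat.card X' ^ 2 :=
          Nat.mul_lt_mul_of_lt_of_le (hXlt hXne) le_rfl (pow_pos Nat.card_pos 2)
        _ = _ := by ring
  · have hQg : Q.map (MulAut.conj g).toMonoidHom = Q := by
      ext y
      exact ⟨fun ⟨z, hz, e⟩ => e ▸ hQn.conj_mem z hz g,
        fun hy => ⟨g⁻¹ * y * g, by simpa using hQn.conj_mem y hy g⁻¹, by simp [mul_assoc]⟩⟩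
    have hV'C : centralizer (D : Set G) ≤ centralizer (V' : Set G) :=
      centralizer_le (SetLike.coe_subset_coe.2 hV'D)
    obtain ⟨hb1, -⟩ := hb.large R1 ((inf_le_left.trans hRQ).trans (hQg ▸ map_mono hQS))
      ((commutator_mono inf_le_left inf_le_left).trans (h1.trans hV'C)) (fun r hr => hV'C (h2 r hr.1)) hR1
    have hlt' : RR * c2 ^ 2 < Nat.card X' ^ 2 * Nat.card ↥(R ⊓ centralizer (X' : Set G)) ^ 3 := by
      rw [hRX']
      refine Nat.lt_of_mul_lt_mul_left (a := Nat.card X ^ 2 * v ^ 2 * Nat.card R1 ^ 3) ?_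
      calc Nat.card X ^ 2 * v ^ 2 * Nat.card R1 ^ 3 * (RR * c2 ^ 2)
          = RR * Nat.card R1 ^ 3 * (Nat.card X * c2 * v) ^ 2 := by ring
        _ ≤ RR * Nat.card R1 ^ 3 * (cX * Nat.card X' * x) ^ 2 := Nat.mul_le_mul_left _ hkey2
        _ = (RR * cX ^ 2) * (Nat.card X' ^ 2 * (Nat.card R1 ^ 3 * x ^ 2)) := by ring
        _ < (Nat.card X ^ 2 * Nat.card R1 ^ 3) * (Nat.card X' ^ 2 *
              (v ^ 2 * Nat.card ↥(R1 ⊓ centralizer (V' : Set G)) ^ 3)) :=
          Nat.mul_lt_mul_of_le_of_lt hXle (Nat.mul_lt_mul_of_pos_left hb1 (pow_pos Nat.card_pos 2))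
            (mul_pos (pow_pos Nat.card_pos 2) (pow_pos Nat.card_pos 3))
        _ = _ := by ring
    exact ⟨hlt'.le, fun _ => hlt'⟩

end CfsgLib.TwoFact
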