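import Cfsg.Agent.Lib.TwoFact.Module

/-!
# The squared bound on elementary abelian normal sections
-/

set_option autoImplicit false
set_option linter.style.haveILetI false
set_option maxHeartbeats 400000

namespace CfsgLib.TwoFact

open Subgroup Module CfsgLib.LocalEven
open scoped commutatorElement

universe u

variable {G : Type u} [Group G] [Finite G]

/-- From a bound on every module, one on the section `M / M0`. -/
theorem section_core {M M0 A : Subgroup G} [hMn : M.Normal] [hM0n : M0.Normal] (hle : M0 ≤ M)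
    (hsq : ∀ m ∈ M, m * m ∈ M0) {n : ℕ}
    (hb : ∀ (V : Type u) [AddCommGroup V] [Module (ZMod 2) V] [Finite V] (ρ : Representation (ZMod 2) G V),
      (∀ x : G, ρ x = 1 ↔ ∀ m ∈ M, ⁅x, m⁆ ∈ M0) →
        2 * n + finrank (ZMod 2) (SquareBound.fix ρ A) ≤ finrank (ZMod 2) V ∧
          2 * n ≤ finrank (ZMod 2) (SquareBound.comm ρ A)) :
    (∀ F : Subgroup G, F ≤ M → (∀ a ∈ A, ∀ f ∈ F, ⁅a, f⁆ ∈ M0) →
        Nat.card F * (2 ^ n) ^ 2 ≤ Nat.card M) ∧
      (∀ W : Subgroup G, M0 ≤ W → W ≤ M → (∀ a ∈ A, ∀ m ∈ M, ⁅a, m⁆ ∈ W) →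
        Nat.card M0 * (2 ^ n) ^ 2 ≤ Nat.card W) := by
  classical
  set N := M0.subgroupOf M
  haveI : N.Normal := normal_subgroupOf
  have hinv : ∀ x : M ⧸ N, x * x = 1 := by
    intro x
    obtain ⟨a, rfl⟩ := QuotientGroup.mk_surjective x
    rw [← QuotientGroup.mk_mul, QuotientGroup.eq_one_iff]
    exact hsq a a.2
  letI : CommGroup (M ⧸ N) :=
    { (inferInstance : Group (M ⧸ N)) with
      mul_comm := fun x y => by
        have hx : x⁻¹ = x := inv_eq_of_mul_eq_one_right (hinv x)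
        have hy : y⁻¹ = y := inv_eq_of_mul_eq_one_right (hinv y)
        have hxy : (x * y)⁻¹ = x * y := inv_eq_of_mul_eq_one_right (hinv _)
        rw [← hxy, mul_inv_rev, hx, hy] }
  letI : Module (ZMod 2) (Additive (M ⧸ N)) := AddCommGroup.zmodModule (fun x => by
    rw [two_nsmul]
    show Additive.ofMul (x.toMul * x.toMul) = Additive.ofMul 1
    rw [hinv])
  let act : G → (M ⧸ N) →* (M ⧸ N) := fun g =>
    QuotientGroup.map N N (MulAut.conjNormal g).toMonoidHom fun m hm => by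
      show g * (m : G) * g⁻¹ ∈ M0
      exact hM0n.conj_mem _ hm g
  let q : M → Additive (M ⧸ N) := fun m => Additive.ofMul (QuotientGroup.mk m)
  let ρ : Representation (ZMod 2) G (Additive (M ⧸ N)) :=
    { toFun := fun g => (act g).toAdditive.toZModLinearMap 2
      map_one' := LinearMap.ext fun v => by
        obtain ⟨m, hm⟩ := QuotientGroup.mk_surjective v.toMul
        have hv : v = q m := hm.symm
        subst hv
        show q (MulAut.conjNormal (1 : G) m) = q m
        rw [map_one]; rfl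
      map_mul' := fun g h => LinearMap.ext fun v => by
        obtain ⟨m, hm⟩ := QuotientGroup.mk_surjective v.toMul
        have hv : v = q m := hm.symm
        subst hv
        show q (MulAut.conjNormal (g * h) m) = q (MulAut.conjNormal g (MulAut.conjNormal h m))
        rw [map_mul]; rfl }
  have hρ : ∀ (g : G) (m : M), ρ g (q m) = q (MulAut.conjNormal g m) := fun g m => rfl
  have hq : ∀ a b : M, q a = q b ↔ (a : G)⁻¹ * b ∈ M0 := fun a b => QuotientGroup.eq
  have hqsub : ∀ a b : M, q a - q b = q (a / b) := fun a b => rfl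
  have hsurj : ∀ v : Additive (M ⧸ N), ∃ m : M, q m = v := fun v => QuotientGroup.mk_surjective v.toMul
  have hfix : ∀ (x : G) (m : M), ρ x (q m) = q m ↔ ⁅x, (m : G)⁆ ∈ M0 := by
    intro x m
    rw [hρ, eq_comm, hq, MulAut.conjNormal_apply, commutatorElement_def]
    constructor
    · intro h; simpa [mul_assoc] using hM0n.conj_mem _ h (m : G)
    · intro h; simpa [mul_assoc] using hM0n.conj_mem _ h (m : G)⁻¹
  have hker : ∀ x : G, ρ x = 1 ↔ ∀ m ∈ M, ⁅x, m⁆ ∈ M0 := fun x =>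
    ⟨fun h m hm => (hfix x ⟨m, hm⟩).1 (LinearMap.congr_fun h _), fun h => LinearMap.ext fun v => by
      obtain ⟨m, rfl⟩ := hsurj v
      exact (hfix x m).2 (h m m.2)⟩
  obtain ⟨h1, h2⟩ := hb (Additive (M ⧸ N)) ρ hker
  have hcardV : Nat.card M = 2 ^ finrank (ZMod 2) (Additive (M ⧸ N)) * Nat.card M0 := by
    rw [N.card_eq_card_quotient_mul_card_subgroup, Nat.card_congr (subgroupOfEquivOfLe hle).toEquiv]
    congr 1
    rw [show Nat.card (M ⧸ N) = Nat.card (Additive (M ⧸ N)) from rfl,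
      Module.natCard_eq_pow_finrank (K := ZMod 2), Nat.card_zmod]
  have hcardS : ∀ S : Submodule (ZMod 2) (Additive (M ⧸ N)), Nat.card S = 2 ^ finrank (ZMod 2) S := fun S => by
    rw [Module.natCard_eq_pow_finrank (K := ZMod 2), Nat.card_zmod]
  constructor
  · intro F hF hFfix
    have hdvd := card_eq_inf_mul_map (F.subgroupOf M) (QuotientGroup.mk' N)
    have hsub : Nat.card ↥((F.subgroupOf M).map (QuotientGroup.mk' N)) ≤ Nat.card (SquareBound.fix ρ A) := by
      refine Nat.card_le_card_of_injective (fun x => ⟨Additive.ofMul x.1, (SquareBound.mem_fix _).2 fun a ha => ?_⟩)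
        (fun x y hxy => by simp only [Subtype.mk.injEq, EmbeddingLike.apply_eq_iff_eq] at hxy; exact Subtype.ext hxy)
      obtain ⟨m, hm, hmx⟩ := x.2
      rw [← hmx]
      exact (hfix a m).2 (hFfix a ha m hm)
    have hinf : Nat.card ↥(F.subgroupOf M ⊓ (QuotientGroup.mk' N).ker) ≤ Nat.card M0 := by
      rw [QuotientGroup.ker_mk', ← Nat.card_congr (subgroupOfEquivOfLe hle).toEquiv]
      exact card_le_of_le inf_le_right
    rw [hcardS] at hsub
    rw [← Nat.card_congr (subgroupOfEquivOfLe hF).toEquiv, hdvd, hcardV, ← pow_mul]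
    calc _ ≤ Nat.card M0 * 2 ^ finrank (ZMod 2) (SquareBound.fix ρ A) * 2 ^ (n * 2) :=
          Nat.mul_le_mul_right _ (Nat.mul_le_mul hinf hsub)
      _ = 2 ^ (2 * n + finrank (ZMod 2) (SquareBound.fix ρ A)) * Nat.card M0 := by ring
      _ ≤ _ := Nat.mul_le_mul_right _ (Nat.pow_le_pow_right two_pos h1)
  · intro W hW0 hWM hW
    let U : Submodule (ZMod 2) (Additive (M ⧸ N)) :=
      AddSubgroup.toZModSubmodule 2 (Subgroup.toAddSubgroup ((W.subgroupOf M).map (QuotientGroup.mk' N)))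
    have hUmem : ∀ m : M, (m : G) ∈ W → q m ∈ U := fun m hm => ⟨m, hm, rfl⟩
    have hcomm : SquareBound.comm ρ A ≤ U := by
      refine iSup_le fun a => ?_
      rintro _ ⟨v, rfl⟩
      obtain ⟨m, rfl⟩ := hsurj v
      show ρ a (q m) - q m ∈ U
      rw [hρ, hqsub]
      refine hUmem _ ?_
      rw [Subgroup.coe_div, MulAut.conjNormal_apply, div_eq_mul_inv, ← commutatorElement_def]
      exact hW a a.2 m m.2
    have h3 : Nat.card U = Nat.card ↥((W.subgroupOf M).map (QuotientGroup.mk' N)) := rfl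
    have hdvd := card_eq_inf_mul_map (W.subgroupOf M) (QuotientGroup.mk' N)
    have hinf : W.subgroupOf M ⊓ (QuotientGroup.mk' N).ker = N := by
      rw [QuotientGroup.ker_mk']
      exact inf_eq_right.2 fun x hx => hW0 hx
    rw [hinf, ← h3, Nat.card_congr (subgroupOfEquivOfLe hle).toEquiv,
      Nat.card_congr (subgroupOfEquivOfLe hWM).toEquiv, hcardS] at hdvd
    rw [hdvd, ← pow_mul]
    exact Nat.mul_le_mul_left _ (Nat.pow_le_pow_right two_pos (by have := Submodule.finrank_mono hcomm; omega))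

theorem card_relQuot {A B : Subgroup G} (hA : IsPGroup 2 A) (hB : B ≤ A) :
    ∃ n, Nat.card A = Nat.card B * 2 ^ n := by
  haveI := two_fact
  obtain ⟨a, ha⟩ := hA.exists_card_eq
  obtain ⟨b, hb, hbe⟩ := (Nat.dvd_prime_pow Nat.prime_two).1 (ha ▸ card_dvd_of_le hB)
  exact ⟨a - b, by rw [ha, hbe, ← pow_add, Nat.add_sub_cancel' hb]⟩

/-- The squared bound on a section moved by an element of odd order. -/
theorem section_bound (hS : S3Free G) (hK : KEven G) {A : Subgroup G} (hA : Cfsg.IsElementaryAbelian 2 A)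
    (hdich : Dich A) {M M0 : Subgroup G} [M.Normal] [M0.Normal] (hle : M0 ≤ M) (hsq : ∀ m ∈ M, m * m ∈ M0)
    {g m : G} (hg : Odd (orderOf g)) (hm : m ∈ M) (hgm : ⁅g, m⁆ ∉ M0) :
    (∀ F : Subgroup G, F ≤ M → (∀ a ∈ A, ∀ f ∈ F, ⁅a, f⁆ ∈ M0) →
        Nat.card F * Nat.card A ^ 2 ≤ Nat.card M * Nat.card ↥(A ⊓ Cfsg.pCore 2 G) ^ 2) ∧
      (∀ W : Subgroup G, M0 ≤ W → W ≤ M → (∀ a ∈ A, ∀ m ∈ M, ⁅a, m⁆ ∈ W) →
        Nat.card M0 * Nat.card A ^ 2 ≤ Nat.card W * Nat.card ↥(A ⊓ Cfsg.pCore 2 G) ^ 2) := by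
  obtain ⟨n, hn⟩ := card_relQuot (CfsgLib.PLocal.isEA_isPGroup hA)
    (inf_le_left : A ⊓ Cfsg.pCore 2 G ≤ A)
  obtain ⟨h1, h2⟩ := section_core (A := A) hle hsq (n := n) fun V _ _ _ ρ hker =>
    module_bound hS hK hA hdich hn _ V ρ g rfl hg fun h => hgm ((hker g).1 h m hm)
  rw [hn]
  exact ⟨fun F h h' => (by ring : Nat.card F * _ = _).trans_le (Nat.mul_le_mul_right _ (h1 F h h')),
    fun W h h' h'' => (by ring : Nat.card M0 * _ = _).trans_le (Nat.mul_le_mul_right _ (h2 W h h' h''))⟩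

/-- The squared bound on a normal elementary subgroup `M` with `O₂(G / C(M)) = 1`. -/
theorem faithful_bound (hS : S3Free G) (hK : KEven G) {A : Subgroup G} (hAp : IsPGroup 2 A)
    {M : Subgroup G} [M.Normal] (hM : Cfsg.IsElementaryAbelian 2 M)
    (hA1 : ⁅A, A⁆ ≤ centralizer (M : Set G)) (hA2 : ∀ a ∈ A, a ^ 2 ∈ centralizer (M : Set G))
    (hP : ∀ P : Subgroup G, P.Normal → centralizer (M : Set G) ≤ P →
      (∀ x ∈ P, ∃ k : ℕ, x ^ 2 ^ k ∈ centralizer (M : Set G)) → P ≤ centralizer (M : Set G)) :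
    (∀ F : Subgroup G, F ≤ M → A ≤ centralizer (F : Set G) →
        Nat.card F * Nat.card A ^ 2 ≤ Nat.card M * Nat.card ↥(A ⊓ centralizer (M : Set G)) ^ 2) ∧
      (∀ W : Subgroup G, W ≤ M → (∀ a ∈ A, ∀ m ∈ M, ⁅a, m⁆ ∈ W) →
        Nat.card A ^ 2 ≤ Nat.card W * Nat.card ↥(A ⊓ centralizer (M : Set G)) ^ 2) := by
  obtain ⟨n, hn⟩ := card_relQuot hAp (inf_le_left : A ⊓ centralizer (M : Set G) ≤ A)
  obtain ⟨h1, h2⟩ := section_core (A := A) (M := M) (M0 := ⊥) bot_le
    (fun m hm => mem_bot.2 (by rw [← pow_two]; exact hM.2 m hm)) (n := n) fun V _ _ _ ρ hker => by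
      have hk : ρ.ker = centralizer (M : Set G) := by
        ext x
        rw [MonoidHom.mem_ker, hker, mem_centralizer_iff]
        simp only [mem_bot, commutatorElement_eq_one_iff_mul_comm, SetLike.mem_coe]
        exact forall₂_congr fun m _ => eq_comm
      refine base_bound hS hK ρ (hk ▸ hP) ?_ (by rw [hk]; exact hn)
      refine ⟨⟨⟨?_⟩⟩, ?_⟩
      · rintro ⟨_, a, ha, rfl⟩ ⟨_, b, hb, rfl⟩
        refine Subtype.ext (commutatorElement_eq_one_iff_mul_comm.1 ?_)
        rw [← map_commutatorElement]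
        exact (QuotientGroup.eq_one_iff _).2 (hk.symm ▸ hA1 (commutator_mem_commutator ha hb))
      · rintro _ ⟨a, ha, rfl⟩
        rw [← map_pow]
        exact (QuotientGroup.eq_one_iff _).2 (hk.symm ▸ hA2 a ha)
  rw [hn]
  refine ⟨fun F h h' => (by ring : Nat.card F * _ = _).trans_le (Nat.mul_le_mul_right _ (h1 F h ?_)), ?_⟩
  · intro a ha f hf
    rw [mem_bot, commutatorElement_eq_one_iff_mul_comm]
    exact (h' ha f hf).symm
  · intro W h h'
    have := Nat.mul_le_mul_right (Nat.card ↥(A ⊓ centralizer (M : Set G)) ^ 2) (h2 W bot_le h h')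
    rw [card_bot, one_mul] at this
    refine le_trans (le_of_eq ?_) this
    ring

end CfsgLib.TwoFact
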