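import Cfsg.Agent.Lib.TwoFact.Bad
import Cfsg.Agent.Lib.TwoFact.Section

/-!
# Bad subgroups lie in `O₂(G)`
-/

set_option autoImplicit false
set_option linter.style.haveILetI false
set_option maxHeartbeats 400000

namespace CfsgLib.TwoFact

open Subgroup Module CfsgLib.LocalEven
open scoped commutatorElement

universe u

variable {G : Type u} [Group G] [Finite G]

/-- An elementary 2-section of a normal 2-subgroup moved by a given element of odd order. -/
theorem exists_section_moved {Q : Subgroup G} [Q.Normal] (hQ : IsPGroup 2 Q) {y : G}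
    (hy : Odd (orderOf y)) (hyQ : y ∉ centralizer (Q : Set G)) :
    ∃ U W : Subgroup G, U.Normal ∧ W.Normal ∧ W ≤ U ∧ U ≤ Q ∧ (∀ m ∈ U, m * m ∈ W) ∧
      ∃ m ∈ U, ⁅y, m⁆ ∉ W := by
  haveI := two_fact
  obtain ⟨U, ⟨hUn, hUQ, hUy⟩, hmin⟩ := Set.Finite.exists_minimal (Set.toFinite
    {X : Subgroup G | X.Normal ∧ X ≤ Q ∧ y ∉ centralizer (X : Set G)}) ⟨Q, inferInstance, le_rfl, hyQ⟩
  set W := closure {x : G | ∃ m ∈ U, x = m * m}
  haveI hWn : W.Normal := by
    refine ⟨fun x hx g => ?_⟩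
    induction hx using closure_induction with
    | mem x hx =>
      obtain ⟨m, hm, rfl⟩ := hx
      exact subset_closure ⟨g * m * g⁻¹, hUn.conj_mem m hm g, by group⟩
    | one => simp
    | mul a b _ _ iha ihb =>
      rw [show g * (a * b) * g⁻¹ = (g * a * g⁻¹) * (g * b * g⁻¹) by group]
      exact mul_mem iha ihb
    | inv a _ iha =>
      rw [show g * a⁻¹ * g⁻¹ = (g * a * g⁻¹)⁻¹ by group]
      exact inv_mem iha
  have hUne : U ≠ ⊥ := fun h => hUy (fun x hx => by
    rw [h] at hx; rw [mem_bot.1 hx, one_mul, mul_one])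
  obtain ⟨n, hn⟩ := (hQ.to_le hUQ).exists_card_eq
  obtain ⟨n, rfl⟩ : ∃ n', n = n' + 1 := Nat.exists_eq_succ_of_ne_zero fun h => hUne (by
    rw [h, pow_zero] at hn; exact card_eq_one.1 hn)
  obtain ⟨T, hT⟩ := Sylow.exists_subgroup_card_pow_prime (G := U) 2 (n := n) (hn ▸ pow_dvd_pow 2 (Nat.le_succ n))
  have hTi : T.index = 2 := by
    have := T.card_mul_index
    rw [hT, hn, pow_succ] at this
    exact Nat.eq_of_mul_eq_mul_left (pow_pos two_pos n) this
  have hWT : W ≤ T.map U.subtype := by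
    rw [closure_le]
    rintro _ ⟨m, hm, rfl⟩
    exact ⟨(⟨m, hm⟩ : U) * ⟨m, hm⟩, Subgroup.mul_self_mem_of_index_two hTi _, rfl⟩
  have hWU : W ≤ U := hWT.trans (map_subtype_le T)
  refine ⟨U, W, hUn, hWn, hWU, hUQ, fun m hm => subset_closure ⟨m, hm, rfl⟩, ?_⟩
  by_contra! hcon
  have hyW : y ∈ centralizer (W : Set G) := by
    by_contra hyW
    have hUW : U ≤ W := hmin ⟨hWn, hWU.trans hUQ, hyW⟩ hWU
    have h1 := card_le_of_le (hUW.trans hWT)
    rw [card_map_of_injective U.subtype_injective, hT, hn, pow_succ] at h1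
    have := pow_pos (two_pos (α := ℕ)) n
    omega
  apply hUy
  intro m hm
  set w := ⁅y, m⁆
  have hw : w ∈ W := hcon m hm
  have hwy : y * w = w * y := (hyW w hw).symm
  have hpow : ∀ i : ℕ, y ^ i * m * (y ^ i)⁻¹ = w ^ i * m := by
    intro i
    induction i with
    | zero => simp
    | succ i ih =>
      calc y ^ (i + 1) * m * (y ^ (i + 1))⁻¹ = y * (y ^ i * m * (y ^ i)⁻¹) * y⁻¹ := by group
        _ = (y * w ^ i * y⁻¹) * (w * m) := by rw [ih]; simp only [w, commutatorElement_def]; group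
        _ = w ^ (i + 1) * m := by
          rw [((show Commute y w from hwy).pow_right i).eq, mul_inv_cancel_right, ← mul_assoc, ← pow_succ]
  have h1 := hpow (orderOf y)
  rw [pow_orderOf_eq_one, one_mul, inv_one, mul_one, right_eq_mul] at h1
  obtain ⟨k, hk⟩ := hQ ⟨w, hUQ (hWU hw)⟩
  have hk' : w ^ 2 ^ k = 1 := congrArg Subtype.val hk
  have hw1 : orderOf w ∣ Nat.gcd (orderOf y) (2 ^ k) :=
    Nat.dvd_gcd (orderOf_dvd_of_pow_eq_one h1) (orderOf_dvd_of_pow_eq_one hk')
  rw [Nat.Coprime.gcd_eq_one (Nat.Coprime.pow_right k (Nat.coprime_two_right.2 hy)), Nat.dvd_one,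
    orderOf_eq_one_iff] at hw1
  exact ((commutatorElement_eq_one_iff_mul_comm).1 hw1).symm

/-- An element inverted by `a`, of order `r`, acting on the quotient inside `⟨k̄⟩`. -/
theorem exists_inverted_lift {Q : Subgroup G} [Q.Normal] {a k0 : G} (ha : a * a = 1) {r : ℕ}
    (hr : r.Prime) (hr2 : r ≠ 2) (hk : orderOf (QuotientGroup.mk' Q k0) = r)
    (hak : QuotientGroup.mk' Q a * QuotientGroup.mk' Q k0 * (QuotientGroup.mk' Q a)⁻¹ =
      (QuotientGroup.mk' Q k0)⁻¹) :
    ∃ y : G, orderOf y = r ∧ a * y * a⁻¹ = y⁻¹ ∧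
      QuotientGroup.mk' Q y ∈ zpowers (QuotientGroup.mk' Q k0) := by
  set f := QuotientGroup.mk' Q
  set y0 := ⁅a, k0⁆
  have hy0 : a * y0 * a⁻¹ = y0⁻¹ := by
    calc a * y0 * a⁻¹ = (a * a) * k0 * a⁻¹ * k0⁻¹ * a⁻¹ := by simp only [y0, commutatorElement_def]; group
      _ = y0⁻¹ := by
        rw [ha, one_mul]
        have hai := inv_eq_of_mul_eq_one_right ha
        simp only [y0, commutatorElement_def, mul_inv_rev, inv_inv, hai]
        group
  have hf0 : f y0 = (f k0)⁻¹ ^ 2 := by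
    rw [show y0 = a * k0 * a⁻¹ * k0⁻¹ from rfl, map_mul, map_mul, map_mul, map_inv, map_inv, hak, pow_two]
  have hord : orderOf (f y0) = r := by
    rw [hf0, orderOf_pow' _ (by norm_num), orderOf_inv, hk,
      Nat.Coprime.gcd_eq_one ((Nat.coprime_primes hr Nat.prime_two).2 hr2), Nat.div_one]
  have hdvd : r ∣ orderOf y0 := hord ▸ orderOf_map_dvd f y0
  refine ⟨y0 ^ (orderOf y0 / r), orderOf_pow_orderOf_div (orderOf_pos y0).ne' hdvd,
    by rw [← conj_pow, hy0, inv_pow], ?_⟩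
  rw [map_pow, hf0]
  exact pow_mem (pow_mem (inv_mem (mem_zpowers _)) 2) _

/-- A bad subgroup lies in `O₂(G)`. -/
theorem Bad.le_core (hS3 : S3Free G) (hK : KEven G)
    (hchar : centralizer (Cfsg.pCore 2 G : Set G) ≤ Cfsg.pCore 2 G) (S : Sylow 2 G) {V : Subgroup G}
    (h : Bad (S : Subgroup G) V) : V ≤ Cfsg.pCore 2 G := by
  haveI := two_fact
  set Q := Cfsg.pCore 2 G with hQdef
  haveI : Q.Normal := CfsgLib.Solvable.pCore_normal (p := 2) G
  have hQ : IsPGroup 2 Q := CfsgLib.Solvable.pCore_isPGroup (p := 2) G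
  have hQS : Q ≤ (S : Subgroup G) := CfsgLib.Solvable.pCore_le_sylow S
  set f := QuotientGroup.mk' Q
  by_contra hVQ
  haveI := h.ea.1
  have hne : V.map f ≠ ⊥ := fun h0 => hVQ (by
    rw [Subgroup.map_eq_bot_iff, QuotientGroup.ker_mk'] at h0
    exact h0)
  have hVbar : Cfsg.IsElementaryAbelian 2 (V.map f) := CfsgLib.PLocal.isEA_map h.ea f
  obtain ⟨Bb, ab, kb, r, N, m, hBA, hab, hcomm, hak, hord, hr, hr2, hN, hcard, hm⟩ :=
    SquareBound.exists_inverter_of_even (CfsgLib.Solvable.pCore_quotient_eq_bot Q hQdef)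
      (hS3.quotient f (QuotientGroup.mk'_surjective Q))
      (fun L hL hn he => by
        haveI := hL.2.2
        exact hK.quotient f (QuotientGroup.mk'_surjective Q) L hL.1 (center ↥L) inferInstance hn he)
      hVbar hne
  obtain ⟨a, haV, rfl⟩ := hab
  obtain ⟨k0, rfl⟩ := QuotientGroup.mk'_surjective Q kb
  have ha2 : a * a = 1 := by rw [← pow_two]; exact h.ea.2 a haV
  obtain ⟨y, hyr, hay, hyk⟩ := exists_inverted_lift ha2 hr hr2 hord hak
  have hyodd : Odd (orderOf y) := hyr ▸ hr.odd_of_ne_two hr2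
  have hy1 : y ≠ 1 := fun h1 => hr.ne_one (by rw [← hyr, h1, orderOf_one])
  have hyQ : y ∉ centralizer (Q : Set G) := fun hc => by
    obtain ⟨j, hj⟩ := hQ ⟨y, hchar hc⟩
    have hj' : y ^ 2 ^ j = 1 := congrArg Subtype.val hj
    have h2 := mem_of_two_pow_mem (N := (⊥ : Subgroup G)) hyodd (k := j) (mem_bot.2 hj')
    exact hy1 (mem_bot.1 h2)
  obtain ⟨U, W, hUn, hWn, hWU, hUQ, hUsq, m0, hm0, hym0⟩ := exists_section_moved hQ hyodd hyQ
  -- the hyperplane `VB` and its conjugate `R`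
  set VB := V ⊓ Bb.comap f
  have hVBmap : VB.map f = Bb := by
    refine le_antisymm (map_le_iff_le_comap.2 inf_le_right) fun x hx => ?_
    obtain ⟨v, hv, rfl⟩ := hBA.le hx
    exact ⟨v, ⟨hv, hx⟩, rfl⟩
  have hVBinf : VB ⊓ f.ker = V ⊓ f.ker := by
    refine le_antisymm (inf_le_inf_right _ inf_le_left) (le_inf (le_inf inf_le_left ?_) inf_le_right)
    intro x hx
    show f x ∈ Bb
    rw [MonoidHom.mem_ker.1 hx.2]
    exact one_mem _
  have hVcard : Nat.card V = Nat.card VB * 2 ^ m := by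
    have e1 := card_eq_inf_mul_map V f
    have e2 := card_eq_inf_mul_map VB f
    rw [hVBmap, hVBinf] at e2
    rw [e1, hcard, e2, mul_assoc]
  set R := VB.map (MulAut.conj y⁻¹).toMonoidHom
  have hfy : ∀ b ∈ Bb, Commute b (f y) := by
    intro b hb
    obtain ⟨i, hi⟩ := mem_zpowers_iff.1 hyk
    rw [← hi]
    exact (show Commute b (f k0) from hcomm b hb).zpow_right i
  have hRB : R ≤ Bb.comap f := by
    rintro _ ⟨v, hv, rfl⟩
    show f (y⁻¹ * v * y⁻¹⁻¹) ∈ Bb
    rw [map_mul, map_mul, inv_inv, map_inv, mul_assoc, (hfy _ hv.2).eq, inv_mul_cancel_left]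
    exact hv.2
  have hRS : R ≤ (S : Subgroup G) := by
    refine hRB.trans ((comap_mono hBA.le).trans ?_)
    rw [comap_map_eq, QuotientGroup.ker_mk']
    exact sup_le h.le hQS
  have hRea : Cfsg.IsElementaryAbelian 2 R :=
    CfsgLib.PLocal.isEA_map (CfsgLib.PLocal.isEA_mono h.ea inf_le_left) _
  haveI := hRea.1
  have hsymm : Nat.card ↥(R ⊓ centralizer (VB : Set G)) = Nat.card ↥(VB ⊓ centralizer (R : Set G)) := by
    set g := y⁻¹ * a with hg
    have ha' : ∀ v ∈ VB, a * v * a⁻¹ = v := fun v hv => by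
      rw [setLike_mul_comm haV (hv.1 : v ∈ V), mul_inv_cancel_right]
    have h1 : VB.map (MulAut.conj g).toMonoidHom = R := by
      ext x
      constructor
      · rintro ⟨v, hv, rfl⟩
        refine ⟨v, hv, ?_⟩
        show y⁻¹ * v * y⁻¹⁻¹ = g * v * g⁻¹
        conv_lhs => rw [← ha' v hv]
        rw [hg]; group
      · rintro ⟨v, hv, rfl⟩
        refine ⟨v, hv, ?_⟩
        show g * v * g⁻¹ = y⁻¹ * v * y⁻¹⁻¹
        conv_rhs => rw [← ha' v hv]
        rw [hg]; group
    have hga : ∀ v ∈ VB, g * (y⁻¹ * v * y) * g⁻¹ = v := fun v hv => by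
      have e : a * y⁻¹ * a⁻¹ = y := by rw [← conj_inv, hay, inv_inv]
      calc g * (y⁻¹ * v * y) * g⁻¹
          = y⁻¹ * (a * y⁻¹ * a⁻¹) * (a * v * a⁻¹) * (a * y⁻¹ * a⁻¹)⁻¹ * y := by rw [hg]; group
        _ = v := by rw [e, ha' v hv]; group
    have h2 : R.map (MulAut.conj g).toMonoidHom = VB := by
      ext x
      constructor
      · rintro ⟨_, ⟨v, hv, rfl⟩, rfl⟩
        show g * (y⁻¹ * v * y⁻¹⁻¹) * g⁻¹ ∈ VB
        rw [inv_inv, hga v hv]
        exact hv
      · intro hx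
        exact ⟨y⁻¹ * x * y⁻¹⁻¹, ⟨x, hx, rfl⟩, by
          show g * (y⁻¹ * x * y⁻¹⁻¹) * g⁻¹ = x
          rw [inv_inv]; exact hga x hx⟩
    have h3 := map_inf_centralizer (f := (MulAut.conj g).toMonoidHom) (MulAut.conj g).injective VB R
    rw [h1, h2] at h3
    rw [h3, card_map_of_injective (f := (MulAut.conj g).toMonoidHom) (MulAut.conj g).injective]
  -- the commutator on the section
  haveI := hUn
  haveI := hWn
  classical
  set N0 := W.subgroupOf U
  haveI : N0.Normal := normal_subgroupOf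
  have hinv : ∀ x : U ⧸ N0, x * x = 1 := by
    intro x
    obtain ⟨z, rfl⟩ := QuotientGroup.mk_surjective x
    rw [← QuotientGroup.mk_mul, QuotientGroup.eq_one_iff]
    exact hUsq z z.2
  letI : CommGroup (U ⧸ N0) :=
    { (inferInstance : Group (U ⧸ N0)) with
      mul_comm := fun x z => by
        have hx : x⁻¹ = x := inv_eq_of_mul_eq_one_right (hinv x)
        have hz : z⁻¹ = z := inv_eq_of_mul_eq_one_right (hinv z)
        have hxz : (x * z)⁻¹ = x * z := inv_eq_of_mul_eq_one_right (hinv _)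
        rw [← hxz, mul_inv_rev, hx, hz] }
  letI : Module (ZMod 2) (Additive (U ⧸ N0)) := AddCommGroup.zmodModule (fun x => by
    rw [two_nsmul]
    show Additive.ofMul (x.toMul * x.toMul) = Additive.ofMul 1
    rw [hinv])
  let q : U → Additive (U ⧸ N0) := fun z => Additive.ofMul (QuotientGroup.mk z)
  let ρ : Representation (ZMod 2) G (Additive (U ⧸ N0)) :=
    { toFun := fun g => (QuotientGroup.map N0 N0 (MulAut.conjNormal g).toMonoidHom fun z hz => by
          show g * (z : G) * g⁻¹ ∈ W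
          exact hWn.conj_mem _ hz g).toAdditive.toZModLinearMap 2
      map_one' := LinearMap.ext fun v => by
        obtain ⟨z, hz⟩ := QuotientGroup.mk_surjective v.toMul
        have hv : v = q z := hz.symm
        subst hv
        show q (MulAut.conjNormal (1 : G) z) = q z
        rw [map_one]; rfl
      map_mul' := fun g g' => LinearMap.ext fun v => by
        obtain ⟨z, hz⟩ := QuotientGroup.mk_surjective v.toMul
        have hv : v = q z := hz.symm
        subst hv
        show q (MulAut.conjNormal (g * g') z) = q (MulAut.conjNormal g (MulAut.conjNormal g' z))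
        rw [map_mul]; rfl }
  have hρ : ∀ (g : G) (z : U), ρ g (q z) = q (MulAut.conjNormal g z) := fun g z => rfl
  have hqsub : ∀ z z' : U, q z - q z' = q (z / z') := fun z z' => rfl
  have hsurj : ∀ v : Additive (U ⧸ N0), ∃ z : U, q z = v := fun v => QuotientGroup.mk_surjective v.toMul
  set W1 := LinearMap.range (ρ y - 1)
  have hpowy : ∀ w, ρ y w = w → ∀ v, ρ y v - v = w → w = 0 := by
    intro w hw v hv
    have hv' : ρ y v = v + w := by rw [← hv, add_sub_cancel]
    have hpow : ∀ i : ℕ, ρ (y ^ i) v = v + i • w := by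
      intro i
      induction i with
      | zero => simp
      | succ i ih =>
        rw [pow_succ', map_mul, Module.End.mul_apply, ih, map_add, map_nsmul, hv', hw, succ_nsmul']
        abel
    have h1 := hpow (orderOf y)
    rw [pow_orderOf_eq_one, map_one, Module.End.one_apply, left_eq_add] at h1
    obtain ⟨j, hj⟩ := hyodd
    rw [hj, add_nsmul, one_nsmul, mul_nsmul, ← Nat.cast_smul_eq_nsmul (ZMod 2) 2,
      show ((2 : ℕ) : ZMod 2) = 0 from rfl, zero_smul, nsmul_zero, zero_add] at h1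
    exact h1
  have hW1y : ∀ w ∈ W1, ρ y w ∈ W1 := by
    rintro _ ⟨v, rfl⟩
    exact ⟨ρ y v, (map_sub (ρ y) _ _).symm⟩
  have hW1fix : ∀ w ∈ W1, ρ y w = w → w = 0 := by
    rintro w ⟨v, rfl⟩ hw
    exact hpowy _ hw v rfl
  have hW1a : ∀ w ∈ W1, ρ a w ∈ W1 := by
    rintro _ ⟨v, rfl⟩
    refine ⟨-(ρ y⁻¹ (ρ a v)), ?_⟩
    have e1 : ρ y (ρ y⁻¹ (ρ a v)) = ρ a v := by
      rw [← Module.End.mul_apply, ← map_mul, mul_inv_cancel, map_one, Module.End.one_apply]
    have e2 : ρ y⁻¹ (ρ a v) = ρ a (ρ y v) := by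
      rw [← Module.End.mul_apply, ← Module.End.mul_apply, ← map_mul, ← map_mul, ← hay, inv_mul_cancel_right]
    show ρ y (-ρ y⁻¹ (ρ a v)) - -ρ y⁻¹ (ρ a v) = ρ a (ρ y v - v)
    rw [map_neg, e1, e2, map_sub]
    abel
  obtain ⟨w0, hw0, hw0y⟩ : ∃ w ∈ W1, ρ y w ≠ w := by
    refine ⟨ρ y (q ⟨m0, hm0⟩) - q ⟨m0, hm0⟩, ⟨_, rfl⟩, fun he => hym0 ?_⟩
    have h1 := hpowy _ he _ rfl
    rw [sub_eq_zero, hρ] at h1
    have h2' : (MulAut.conjNormal y (⟨m0, hm0⟩ : U))⁻¹ * (⟨m0, hm0⟩ : U) ∈ N0 := QuotientGroup.eq.1 h1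
    have h2 : ((MulAut.conjNormal y (⟨m0, hm0⟩ : U) : U) : G)⁻¹ * m0 ∈ W := h2'
    rw [MulAut.conjNormal_apply] at h2
    have h3 := hWn.conj_mem _ (W.inv_mem h2) m0
    have e : m0 * ((y * m0 * y⁻¹)⁻¹ * m0)⁻¹ * m0⁻¹ = y * m0 * y⁻¹ * m0⁻¹ := by group
    rw [e] at h3
    exact h3
  have hcod := SquareBound.fixed_codim ρ (a := a) hW1y hay hyr hr hr2 hN ⟨w0, hw0, hw0y⟩
  set L0 := W1.map (ρ a - 1)
  have hL0W : L0 ≤ W1 := by
    rintro _ ⟨w, hw, rfl⟩
    exact sub_mem (hW1a w hw) hw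
  have hL0dim : N ≤ 2 * finrank (ZMod 2) L0 := by
    have h1 := LinearMap.finrank_range_add_finrank_ker ((ρ a - 1).domRestrict W1)
    rw [LinearMap.range_domRestrict] at h1
    change finrank (ZMod 2) L0 + _ = _ at h1
    have h2 : finrank (ZMod 2) (LinearMap.ker ((ρ a - 1).domRestrict W1)) ≤
        finrank (ZMod 2) ↥(W1 ⊓ LinearMap.eqLocus (ρ a) 1) :=
      LinearMap.finrank_le_finrank_of_injective
        (f := (W1.subtype.comp (LinearMap.ker _).subtype).codRestrict _ fun x => ⟨x.1.2, by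
          have hx : ρ a x.1.1 - x.1.1 = 0 := LinearMap.mem_ker.1 x.2
          exact sub_eq_zero.1 hx⟩)
        (fun x z hxz => Subtype.ext (Subtype.ext (by have hh := congrArg Subtype.val hxz; exact hh)))
    omega
  set e := Nat.card ↥(R ⊓ centralizer (V : Set G))
  have hlow : 2 ^ finrank (ZMod 2) L0 * e ≤ Nat.card R := by
    have hrep : ∀ l : L0, ∃ z : U, (z : G) ∈ R ∧ q z = ρ y⁻¹ l.1 := by
      rintro ⟨_, w, -, rfl⟩
      obtain ⟨z, rfl⟩ := hsurj w
      refine ⟨MulAut.conjNormal y⁻¹ (MulAut.conjNormal a z / z), ?_, ?_⟩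
      · refine ⟨⁅a, (z : G)⁆, ⟨?_, ?_⟩, ?_⟩
        · have hz := (mem_normalizer_iff.1 (h.norm (hQS (hUQ z.2))) a⁻¹).1 (V.inv_mem haV)
          rw [commutatorElement_def, show a * (z : G) * a⁻¹ * (z : G)⁻¹ = a * ((z : G) * a⁻¹ * (z : G)⁻¹) by group]
          exact V.mul_mem haV hz
        · show f ⁅a, (z : G)⁆ ∈ Bb
          rw [show f ⁅a, (z : G)⁆ = 1 from (QuotientGroup.eq_one_iff _).2 (by
            rw [commutatorElement_def]
            exact Q.mul_mem ((inferInstance : Q.Normal).conj_mem _ (hUQ z.2) a) (Q.inv_mem (hUQ z.2)))]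
          exact one_mem _
        · simp [commutatorElement_def, div_eq_mul_inv, mul_assoc]
      · rw [← hρ, ← hqsub]
        rfl
    choose s hsR hsq using hrep
    rw [show 2 ^ finrank (ZMod 2) L0 = Nat.card L0 by
      rw [Module.natCard_eq_pow_finrank (K := ZMod 2), Nat.card_zmod], ← Nat.card_prod]
    refine Nat.card_le_card_of_injective
      (fun p : L0 × ↥(R ⊓ centralizer (V : Set G)) => (⟨(s p.1 : G) * p.2, R.mul_mem (hsR _) p.2.2.1⟩ : R)) ?_
    rintro ⟨l, c⟩ ⟨l', c'⟩ hlc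
    simp only [Subtype.mk.injEq] at hlc
    have hd : (s l : G)⁻¹ * s l' ∈ centralizer (V : Set G) := by
      have : (s l : G)⁻¹ * s l' = c * (c' : G)⁻¹ := by
        calc (s l : G)⁻¹ * s l' = (s l : G)⁻¹ * ((s l' : G) * c') * (c' : G)⁻¹ := by group
          _ = _ := by rw [← hlc]; group
      rw [this]
      exact mul_mem c.2.2 (inv_mem c'.2.2)
    have hfix : ρ a (q ((s l)⁻¹ * s l')) = q ((s l)⁻¹ * s l') := by
      rw [hρ]
      congr 1
      refine Subtype.ext ?_
      rw [MulAut.conjNormal_apply]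
      exact mul_inv_eq_iff_eq_mul.2 (hd a haV)
    have hqd : q ((s l)⁻¹ * s l') = ρ y⁻¹ (l'.1 - l.1) := by
      rw [map_sub, ← hsq, ← hsq, hqsub]
      show q ((s l)⁻¹ * s l') = q (s l' / s l)
      simp only [q, QuotientGroup.mk_mul, QuotientGroup.mk_inv, div_eq_mul_inv]
      rw [mul_comm]
    obtain ⟨wl, hwl⟩ : ∃ w, ρ a w - w = l'.1 - l.1 := by
      obtain ⟨w, -, hw⟩ := sub_mem l'.2 l.2
      exact ⟨w, hw⟩
    have hdW : l'.1 - l.1 ∈ W1 := sub_mem (hL0W l'.2) (hL0W l.2)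
    have hda : ρ a (l'.1 - l.1) = l'.1 - l.1 := by
      rw [← hwl, map_sub, ← Module.End.mul_apply, ← map_mul, ha2, map_one, Module.End.one_apply]
      have hneg : ∀ v : Additive (U ⧸ N0), -v = v := fun v => by
        rw [neg_eq_iff_add_eq_zero, ← two_nsmul, ← Nat.cast_smul_eq_nsmul (ZMod 2) 2,
          show ((2 : ℕ) : ZMod 2) = 0 from rfl, zero_smul]
      rw [← neg_sub (ρ a wl) wl, hneg]
    set d := l'.1 - l.1
    rw [hqd] at hfix
    have h1 : ρ y d = ρ y⁻¹ d := by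
      rw [← Module.End.mul_apply, ← map_mul] at hfix
      conv_lhs => rw [← hda, ← Module.End.mul_apply, ← map_mul]
      rw [← hfix, show a * y⁻¹ = y * a by
        calc a * y⁻¹ = (a * y * a⁻¹)⁻¹ * a := by group
          _ = y * a := by rw [hay, inv_inv]]
    have h2 : ρ (y ^ 2) d = d := by
      rw [pow_two, map_mul, Module.End.mul_apply, h1, ← Module.End.mul_apply, ← map_mul, mul_inv_cancel,
        map_one, Module.End.one_apply]
    have h3 : ρ y d = d := by
      obtain ⟨i, hi⟩ := exists_pow_eq_self_of_coprime (x := y) (n := 2) (Nat.coprime_two_left.2 hyodd)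
      rw [← hi]
      clear hi
      induction i with
      | zero => simp
      | succ i ih => rw [pow_succ', map_mul, Module.End.mul_apply, ih, h2]
    have h4 : l = l' := Subtype.ext (sub_eq_zero.1 (hW1fix d hdW h3)).symm
    subst h4
    exact Prod.ext rfl (Subtype.ext (mul_left_cancel hlc))
  -- the bound
  have hm1 : 1 ≤ m := by
    rcases Nat.eq_zero_or_pos m with hm0' | hm0'
    · exfalso
      rw [hm0', pow_zero, mul_one] at hcard
      exact hBA.ne (eq_of_le_of_card_ge hBA.le hcard.le)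
    · exact hm0'
  have hd2m : 2 * m ≤ finrank (ZMod 2) L0 := by omega
  have hlow' : 4 ^ m * e ≤ Nat.card R := by
    refine le_trans (Nat.mul_le_mul_right _ ?_) hlow
    rw [show (4 : ℕ) = 2 ^ 2 by norm_num, ← pow_mul]
    exact Nat.pow_le_pow_right two_pos hd2m
  have hRne : ¬ R ≤ centralizer (V : Set G) := by
    intro hle
    have he : e = Nat.card R := by
      show Nat.card ↥(R ⊓ centralizer (V : Set G)) = _
      rw [inf_eq_left.2 hle]
    rw [he] at hlow'
    have : 4 ≤ 4 ^ m := Nat.le_self_pow (by omega) 4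
    have := Nat.mul_le_mul_right (Nat.card R) this
    have hp : 0 < Nat.card R := Nat.card_pos
    omega
  obtain ⟨hb, -⟩ := h.large R hRS (by
    rw [(commutator_eq_bot_iff_le_centralizer).2 (le_centralizer_iff_isMulCommutative.2 inferInstance)]
    exact bot_le) (fun z hz => by rw [hRea.2 z hz]; exact one_mem _) hRne
  have hRcard : Nat.card R = Nat.card VB :=
    (Nat.card_congr (VB.equivMapOfInjective _ (MulAut.conj y⁻¹).injective).toEquiv).symm
  have he_le : e ≤ Nat.card ↥(V ⊓ centralizer (R : Set G)) := by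
    refine le_trans (le_trans (card_le_of_le (inf_le_inf_left R
      (centralizer_le (SetLike.coe_subset_coe.2 (inf_le_left : VB ≤ V))))) hsymm.le) ?_
    exact card_le_of_le (inf_le_inf_right _ inf_le_left)
  rw [hVcard, ← hRcard] at hb
  set β := Nat.card R
  have h1 : β ^ 3 * e ^ 2 < (β * 2 ^ m) ^ 2 * e ^ 3 :=
    lt_of_le_of_lt (Nat.mul_le_mul_left _ (Nat.pow_le_pow_left he_le 2)) hb
  have h2 : (β * 2 ^ m) ^ 2 * e ^ 3 ≤ β ^ 3 * e ^ 2 := by
    calc (β * 2 ^ m) ^ 2 * e ^ 3 = β ^ 2 * e ^ 2 * ((2 ^ m) ^ 2 * e) := by ring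
      _ ≤ β ^ 2 * e ^ 2 * β := Nat.mul_le_mul_left _ (by
        rw [← pow_mul, mul_comm m 2, pow_mul]; exact hlow')
      _ = _ := by ring
  omega

end CfsgLib.TwoFact
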