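import Cfsg.Agent.Lib.TwoFact.Bad

/-!
# The subgroup generated by the E-subgroups containing the Thompson subgroup
-/

set_option autoImplicit false
set_option linter.style.haveILetI false

namespace CfsgLib.TwoFact

open Subgroup CfsgLib.PLocal

variable {G : Type*} [Group G]

/-- `X` is an E-group, read inside the ambient group. -/
def EProp (X : Subgroup G) : Prop := ∀ V : Subgroup G, Bad X V → X ≤ centralizer (V : Set G)

theorem eProp_map {H : Type*} [Group H] {f : G →* H} (hf : Function.Injective f) {X : Subgroup G} :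
    EProp (X.map f) ↔ EProp X := by
  constructor
  · intro h V hV
    exact (centralizer_map_le hf).1 (h _ ((bad_map_iff hf).2 hV))
  · intro h V hV
    have he : (V.comap f).map f = V := map_comap_eq_self (hV.le.trans (map_le_range f X))
    rw [← he] at hV ⊢
    exact (centralizer_map_le hf).2 (h _ ((bad_map_iff hf).1 hV))

/-- `Ĵ(U)` inside the ambient group. -/
def jHatOf (U : Subgroup G) : Subgroup G := (Cfsg.jHat ↥U).map U.subtype

theorem jHatOf_eq (U : Subgroup G) :
    jHatOf U = sSup {X : Subgroup G | X ≤ U ∧ EProp X ∧ Cfsg.thompsonSubgroupOf 2 U ≤ X} := by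
  apply le_antisymm
  · rw [jHatOf, map_le_iff_le_comap, Cfsg.jHat, sSup_le_iff]
    rintro X ⟨hX, hJ⟩
    rw [← map_le_iff_le_comap]
    refine le_sSup ⟨map_subtype_le X, (eProp_map U.subtype_injective).2 ?_, map_mono hJ⟩
    exact isEGroup_subgroup_iff.1 hX
  · rw [sSup_le_iff]
    rintro X ⟨hXU, hX, hJ⟩
    rw [jHatOf, ← map_subgroupOf_eq_of_le hXU]
    refine map_mono (le_sSup ⟨isEGroup_subgroup_iff.2 ?_, ?_⟩)
    · exact (eProp_map U.subtype_injective).1 (by rwa [map_subgroupOf_eq_of_le hXU])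
    · exact (map_le_map_iff_of_injective U.subtype_injective).1 (by
        rw [map_subgroupOf_eq_of_le hXU]; exact hJ)

theorem jHatOf_le (U : Subgroup G) : jHatOf U ≤ U := map_subtype_le _

theorem le_jHatOf {U X : Subgroup G} (hXU : X ≤ U) (hX : EProp X)
    (hJ : Cfsg.thompsonSubgroupOf 2 U ≤ X) : X ≤ jHatOf U := by
  rw [jHatOf_eq]; exact le_sSup ⟨hXU, hX, hJ⟩

theorem thompson_le_jHatOf [Finite G] (U : Subgroup G) : Cfsg.thompsonSubgroupOf 2 U ≤ jHatOf U := by
  refine le_jHatOf (thompsonSubgroupOf_le 2 U) (fun V hV => ?_) le_rfl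
  rw [thompsonSubgroupOf_eq, sSup_le_iff]
  intro A hA
  have hAJ : A ≤ Cfsg.thompsonSubgroupOf 2 U := by rw [thompsonSubgroupOf_eq]; exact le_sSup hA
  exact hV.maxEA_le (mem_maxEAIn_of_le (thompsonSubgroupOf_le 2 U) hA hAJ)

theorem jHatOf_map {H : Type*} [Group H] {f : G →* H} (hf : Function.Injective f) (U : Subgroup G) :
    (jHatOf U).map f = jHatOf (U.map f) := by
  rw [jHatOf_eq, jHatOf_eq, sSup_eq_iSup, Subgroup.map_iSup]
  simp only [Subgroup.map_iSup]
  refine le_antisymm (iSup₂_le fun X hX => le_sSup ⟨map_mono hX.1, (eProp_map hf).2 hX.2.1,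
    by rw [← thompsonSubgroupOf_map hf]; exact map_mono hX.2.2⟩) (sSup_le fun Y hY => ?_)
  have he : (Y.comap f).map f = Y := map_comap_eq_self (hY.1.trans (map_le_range f U))
  have h1 : Y.comap f ≤ U := (map_le_map_iff_of_injective hf).1 (by rw [he]; exact hY.1)
  have h2 : EProp (Y.comap f) := (eProp_map hf).1 (by rw [he]; exact hY.2.1)
  have h3 : Cfsg.thompsonSubgroupOf 2 U ≤ Y.comap f := (map_le_map_iff_of_injective hf).1 (by
    rw [he, thompsonSubgroupOf_map hf]; exact hY.2.2)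
  exact he ▸ le_iSup₂ (f := fun X (_ : X ∈ {X : Subgroup G | X ≤ U ∧ EProp X ∧
    Cfsg.thompsonSubgroupOf 2 U ≤ X}) => X.map f) (Y.comap f) ⟨h1, h2, h3⟩

theorem normalizer_le_normalizer_jHatOf (U : Subgroup G) :
    normalizer (U : Set G) ≤ normalizer (jHatOf U : Set G) := fun g hg =>
  mem_normalizer_of_map_conj_eq (by
    rw [jHatOf_map (MulAut.conj g).injective, map_conj_eq_of_mem_normalizer hg])

theorem jHatOf_mono [Finite G] {T S : Subgroup G} (hTS : T ≤ S)
    (hJ : Cfsg.thompsonSubgroupOf 2 S ≤ T) : jHatOf T ≤ jHatOf S := by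
  rw [jHatOf_eq T]
  exact sSup_le fun X hX => le_jHatOf (hX.1.trans hTS) hX.2.1
    (by rw [← thompsonSubgroupOf_eq_of_le hTS hJ]; exact hX.2.2)

theorem jHatOf_eq_of_le [Finite G] {T S : Subgroup G} (hTS : T ≤ S) (h : jHatOf S ≤ T) :
    jHatOf T = jHatOf S := by
  have hJ := (thompson_le_jHatOf S).trans h
  refine le_antisymm (jHatOf_mono hTS hJ) ?_
  rw [jHatOf_eq S]
  exact sSup_le fun X hX => le_jHatOf ((le_jHatOf hX.1 hX.2.1 hX.2.2).trans h) hX.2.1
    (by rw [thompsonSubgroupOf_eq_of_le hTS hJ]; exact hX.2.2)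

end CfsgLib.TwoFact
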