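import Cfsg.Agent.Lib.TwoFact.Main
import Cfsg.Agent.Lib.TwoFact.EGroup

/-!
# The factorisations by `C(Z(S))` and `C(Ω₁ Z(Ĵ(S)))`
-/

set_option autoImplicit false
set_option linter.style.haveILetI false
set_option maxHeartbeats 400000

namespace CfsgLib.TwoFact

open Subgroup CfsgLib.LocalEven CfsgLib.PLocal
open scoped commutatorElement

universe u

variable {G : Type u} [Group G] [Finite G]

theorem exists_two_pow_odd (y : G) : ∃ j : ℕ, Odd (orderOf (y ^ 2 ^ j)) := by
  obtain ⟨i, o, ho, hio⟩ := Nat.exists_eq_two_pow_mul_odd (orderOf_pos y).ne'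
  refine ⟨i, ?_⟩
  rw [orderOf_pow' _ (by positivity), hio, Nat.gcd_eq_right (dvd_mul_right _ _),
    Nat.mul_div_cancel_left _ (by positivity)]
  exact ho

/-- An element of odd order fixing `e = [x, v]` for `v` in a 2-group centralises `v`. -/
theorem commute_of_odd_of_fixed {x v : G} (hx : Odd (orderOf x)) {k : ℕ}
    (he : ⁅x, v⁆ ^ 2 ^ k = 1) (hxe : x * ⁅x, v⁆ = ⁅x, v⁆ * x) : x * v = v * x := by
  set e := ⁅x, v⁆
  have hpow : ∀ i : ℕ, x ^ i * v * (x ^ i)⁻¹ = e ^ i * v := by
    intro i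
    induction i with
    | zero => simp
    | succ i ih =>
      calc x ^ (i + 1) * v * (x ^ (i + 1))⁻¹ = x * (x ^ i * v * (x ^ i)⁻¹) * x⁻¹ := by group
        _ = (x * e ^ i * x⁻¹) * (e * v) := by rw [ih]; simp only [e, commutatorElement_def]; group
        _ = e ^ (i + 1) * v := by
          rw [((show Commute x e from hxe).pow_right i).eq, mul_inv_cancel_right, ← mul_assoc, ← pow_succ]
  have h1 := hpow (orderOf x)
  rw [pow_orderOf_eq_one, one_mul, inv_one, mul_one, right_eq_mul] at h1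
  have h2 : orderOf e ∣ Nat.gcd (orderOf x) (2 ^ k) :=
    Nat.dvd_gcd (orderOf_dvd_of_pow_eq_one h1) (orderOf_dvd_of_pow_eq_one he)
  rw [Nat.Coprime.gcd_eq_one (Nat.Coprime.pow_right k (Nat.coprime_two_right.2 hx)), Nat.dvd_one,
    orderOf_eq_one_iff] at h2
  exact commutatorElement_eq_one_iff_mul_comm.1 h2

/-- A normal subgroup is contained in every subgroup containing its Sylow 2-subgroup and its elements
of odd order. -/
theorem le_of_inf_sylow_odd (S : Sylow 2 G) (P : Subgroup G) [hP : P.Normal] {X : Subgroup G}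
    (hS : (S : Subgroup G) ⊓ P ≤ X) (hodd : ∀ g ∈ P, Odd (orderOf g) → g ∈ X) : P ≤ X := by
  haveI := two_fact
  suffices h : Nat.card P ∣ Nat.card ↥(X ⊓ P) from
    (eq_of_le_of_card_ge inf_le_right (Nat.le_of_dvd Nat.card_pos h)).ge.trans inf_le_left
  rw [Nat.dvd_iff_prime_pow_dvd_dvd]
  intro p k hp hk
  haveI := Fact.mk hp
  rcases eq_or_ne p 2 with rfl | hp2
  · refine dvd_trans ?_ (card_dvd_of_le (le_inf hS inf_le_right))
    rw [inf_comm, CfsgLib.Subnormal.card_inf_sylow 2 hP.isSubnormal S]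
    exact pow_dvd_pow 2 ((hp.pow_dvd_iff_le_factorization Nat.card_pos.ne').1 hk)
  · obtain ⟨R, hR⟩ := Sylow.exists_subgroup_card_pow_prime p hk
    rw [← hR, ← card_map_of_injective (f := P.subtype) P.subtype_injective]
    refine card_dvd_of_le ?_
    rintro _ ⟨x, hx, rfl⟩
    refine ⟨hodd x x.2 (Odd.of_dvd_nat ?_ ((orderOf_coe x).symm ▸ R.orderOf_dvd_natCard hx)), x.2⟩
    rw [hR]
    exact (hp.odd_of_ne_two hp2).pow

/-- `Ω₁ Z(U)`. -/
def omegaZ (U : Subgroup G) : Subgroup G := Cfsg.omegaOne 2 (U ⊓ centralizer (U : Set G))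

/-- The centre of a subgroup. -/
def zOf (U : Subgroup G) : Subgroup G := U ⊓ centralizer (U : Set G)

theorem part_one (hchar : centralizer (Cfsg.pCore 2 G : Set G) ≤ Cfsg.pCore 2 G) (hS3 : S3Free G)
    (hK : KEven G) (S : Sylow 2 G) (g : G) :
    ∃ c ∈ centralizer (zOf (S : Subgroup G) : Set G),
      ∃ n ∈ normalizer (Cfsg.thompsonSubgroupOf 2 (S : Subgroup G) : Set G),
        n ∈ normalizer (jHatOf (S : Subgroup G) : Set G) ∧ g = c * n := by
  haveI := two_fact
  set Q := Cfsg.pCore 2 G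
  haveI hQn : Q.Normal := CfsgLib.Solvable.pCore_normal (p := 2) G
  have hQ : IsPGroup 2 Q := CfsgLib.Solvable.pCore_isPGroup (p := 2) G
  have hQS : Q ≤ (S : Subgroup G) := CfsgLib.Solvable.pCore_le_sylow S
  set Z := zOf (S : Subgroup G)
  set V := Subgroup.normalClosure (Z : Set G)
  haveI : V.Normal := normalClosure_normal
  have hZQ : Z ≤ Q ⊓ centralizer (Q : Set G) :=
    le_inf (fun z hz => hchar fun q hq => hz.2 q (hQS hq))
      (inf_le_right.trans (centralizer_le (SetLike.coe_subset_coe.2 hQS)))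
  have hVQ : V ≤ Q ⊓ centralizer (Q : Set G) := normalClosure_le_normal hZQ
  have hVab : V ≤ centralizer (V : Set G) := (hVQ.trans inf_le_right).trans
    (centralizer_le (SetLike.coe_subset_coe.2 (hVQ.trans inf_le_left)))
  set C := centralizer (V : Set G)
  have hCZ : C ≤ centralizer (Z : Set G) := centralizer_le subset_normalClosure
  -- `O₂(G / C) = 1`
  have hP : ∀ P : Subgroup G, P.Normal → C ≤ P → (∀ x ∈ P, ∃ k : ℕ, x ^ 2 ^ k ∈ C) → P ≤ C := by
    intro P hPn _ hP2
    haveI := hPn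
    have h1 : P ≤ centralizer (Z : Set G) := le_of_inf_sylow_odd S P
      (inf_le_left.trans (le_centralizer_iff.1 inf_le_right)) fun x hx hodd => by
        obtain ⟨k, hk⟩ := hP2 x hx
        exact hCZ (mem_of_two_pow_mem hodd hk)
    exact le_centralizer_iff.1 (normalClosure_le_normal (le_centralizer_iff.1 h1))
  set V1 := Cfsg.omegaOne 2 V
  have hV1V : V1 ≤ V := omegaOne_le 2 V
  haveI hV1n : V1.Normal := by
    refine ⟨fun x hx g => ?_⟩
    have h := omegaOne_map (p := 2) (f := (MulAut.conj g).toMonoidHom) (MulAut.conj g).injective V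
    rw [map_conj_eq_of_mem_normalizer (show g ∈ normalizer (V : Set G) by rw [normalizer_eq_top]; exact mem_top g)] at h
    have hmem : g * x * g⁻¹ ∈ (Cfsg.omegaOne 2 V).map (MulAut.conj g).toMonoidHom := ⟨x, hx, rfl⟩
    rwa [h] at hmem
  have hV1ea : Cfsg.IsElementaryAbelian 2 V1 := omegaOne_isEA (le_centralizer_iff_isMulCommutative.1 hVab)
  -- elements of odd order centralising `V1` centralise `V`
  have hodd1 : ∀ x : G, Odd (orderOf x) → x ∈ centralizer (V1 : Set G) → x ∈ C := by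
    intro x hx hxc
    have hall : ∀ (k : ℕ) (v : G), v ∈ V → v ^ 2 ^ k = 1 → x * v = v * x := by
      intro k
      induction k with
      | zero => intro v _ hv; rw [pow_zero, pow_one] at hv; rw [hv, mul_one, one_mul]
      | succ k ih =>
        intro v hv hk
        have h2 : x * v ^ 2 * x⁻¹ = v ^ 2 := by
          rw [ih (v ^ 2) (pow_mem hv 2) (by rw [← pow_mul, ← pow_succ', hk]), mul_inv_cancel_right]
        have hxv : x * v * x⁻¹ ∈ V := (inferInstance : V.Normal).conj_mem v hv x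
        have hcm : Commute (x * v * x⁻¹) v⁻¹ :=
          ((hVab hxv) v hv : v * (x * v * x⁻¹) = x * v * x⁻¹ * v).symm |> fun h => (show Commute _ v from h).inv_right
        have he2 : ⁅x, v⁆ ^ 2 = 1 := by
          rw [commutatorElement_def, hcm.mul_pow, conj_pow, h2, inv_pow, mul_inv_cancel]
        have heV : ⁅x, v⁆ ∈ V := by rw [commutatorElement_def]; exact V.mul_mem hxv (V.inv_mem hv)
        exact commute_of_odd_of_fixed hx (k := 1) (by rwa [pow_one])
          ((hxc _ (mem_omegaOne heV he2)).symm)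
    intro v hv
    obtain ⟨k, hk⟩ := hQ ⟨v, (hVQ hv).1⟩
    exact (hall k v hv (congrArg Subtype.val hk)).symm
  have hCle : C ≤ centralizer (V1 : Set G) := centralizer_le (SetLike.coe_subset_coe.2 hV1V)
  have hC1 : centralizer (V1 : Set G) ≤ C := hP _ inferInstance hCle fun x hx => by
    obtain ⟨j, hj⟩ := exists_two_pow_odd x
    exact ⟨j, hodd1 _ hj (pow_mem hx _)⟩
  have hP1 : ∀ P : Subgroup G, P.Normal → centralizer (V1 : Set G) ≤ P →
      (∀ x ∈ P, ∃ k : ℕ, x ^ 2 ^ k ∈ centralizer (V1 : Set G)) → P ≤ centralizer (V1 : Set G) := by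
    intro P hPn hle hP2
    refine le_trans (hP P hPn (hCle.trans hle) fun x hx => ?_) hCle
    obtain ⟨k, hk⟩ := hP2 x hx
    exact ⟨k, hC1 hk⟩
  have hV1S : V1 ≤ (S : Subgroup G) := hV1V.trans ((hVQ.trans inf_le_left).trans hQS)
  set J := Cfsg.thompsonSubgroupOf 2 (S : Subgroup G)
  have hAC : ∀ A ∈ maxEAIn 2 (S : Subgroup G), A ≤ centralizer (V1 : Set G) ∧ V1 ≤ A := by
    intro A hA
    haveI := hA.2.1.1
    have hh := faithful_bound hS3 hK (isEA_isPGroup hA.2.1) (M := V1) hV1ea (by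
        rw [(commutator_eq_bot_iff_le_centralizer).2 (le_centralizer_iff_isMulCommutative.2 inferInstance)]
        exact bot_le) (fun a ha => by rw [hA.2.1.2 a ha]; exact one_mem _) hP1
    have h1 := hh.1 (V1 ⊓ centralizer (A : Set G)) inf_le_left (le_centralizer_iff.1 inf_le_right)
    set γ := Nat.card ↥(A ⊓ centralizer (V1 : Set G))
    set φ := Nat.card ↥(V1 ⊓ centralizer (A : Set G))
    have hle : A ⊓ centralizer (V1 : Set G) ≤ centralizer (V1 : Set G) := inf_le_right
    have hmax : γ * Nat.card V1 ≤ Nat.card A * φ := by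
      rw [← CfsgLib.PLoc.card_sup_mul_card_inf (hle.trans (centralizer_le_normalizer _))]
      refine Nat.mul_le_mul (hA.2.2 _ (sup_le (inf_le_left.trans hA.1) hV1S)
        (isEA_sup (isEA_mono hA.2.1 inf_le_left) hV1ea hle)) (card_le_of_le fun x hx => ⟨hx.2, fun a ha => ?_⟩)
      exact setLike_mul_comm ha hx.1.1
    have hαγ : Nat.card A ≤ γ := by
      refine (Nat.mul_le_mul_left_iff (show 0 < φ * Nat.card A * γ from
        mul_pos (mul_pos Nat.card_pos Nat.card_pos) Nat.card_pos)).1 ?_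
      calc φ * Nat.card A * γ * Nat.card A = γ * (φ * Nat.card A ^ 2) := by ring
        _ ≤ γ * (Nat.card V1 * γ ^ 2) := Nat.mul_le_mul_left _ h1
        _ = γ * Nat.card V1 * γ ^ 2 := by ring
        _ ≤ Nat.card A * φ * γ ^ 2 := Nat.mul_le_mul_right _ hmax
        _ = _ := by ring
    have hAc : A ≤ centralizer (V1 : Set G) := (eq_of_le_of_card_ge inf_le_left hαγ).ge.trans inf_le_right
    refine ⟨hAc, ?_⟩
    have := hA.2.2 (A ⊔ V1) (sup_le hA.1 hV1S) (isEA_sup hA.2.1 hV1ea hAc)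
    exact le_sup_right.trans (eq_of_le_of_card_ge le_sup_left this).ge
  have hV1J : V1 ≤ J := by
    obtain ⟨A, hA⟩ := exists_maxEAIn 2 (S : Subgroup G)
    refine (hAC A hA).2.trans ?_
    rw [show J = sSup (maxEAIn 2 (S : Subgroup G)) from thompsonSubgroupOf_eq 2 _]
    exact le_sSup hA
  -- every E-subgroup containing `J` centralises `V`
  have hjC : jHatOf (S : Subgroup G) ≤ C := by
    rw [jHatOf_eq, sSup_le_iff]
    rintro X ⟨hXS, hX, hJX⟩
    refine (hX V1 ⟨hV1J.trans hJX, hV1ea, le_normalizer_of_normal, fun R hR h1 h2 h3 => ?_⟩).trans hC1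
    obtain ⟨hf, hw⟩ := faithful_bound hS3 hK (S.isPGroup'.to_le (hR.trans hXS)) hV1ea h1 h2 hP1
    have hf' := hf (V1 ⊓ centralizer (R : Set G)) inf_le_left (le_centralizer_iff.1 inf_le_right)
    have hw' := hw ⁅V1, R⁆ (commutator_le_left V1 R) fun a ha m hm => by
      rw [commutator_comm]; exact commutator_mem_commutator ha hm
    set r := Nat.card R
    set r' := Nat.card ↥(R ⊓ centralizer (V1 : Set G))
    set φ := Nat.card ↥(V1 ⊓ centralizer (R : Set G))
    have hrr : r' < r := lt_of_le_of_ne (card_le_of_le inf_le_left) fun h => h3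
      ((eq_of_le_of_card_ge inf_le_left h.ge).ge.trans inf_le_right)
    have hr'0 : 0 < r' := Nat.card_pos
    have hφ0 : 0 < φ := Nat.card_pos
    constructor
    · refine Nat.lt_of_mul_lt_mul_right (a := r') ?_
      calc r ^ 3 * φ ^ 2 * r' < r ^ 3 * φ ^ 2 * r :=
            Nat.mul_lt_mul_of_pos_left hrr (mul_pos (pow_pos (by omega) 3) (pow_pos hφ0 2))
        _ = (φ * r ^ 2) ^ 2 := by ring
        _ ≤ (Nat.card V1 * r' ^ 2) ^ 2 := Nat.pow_le_pow_left hf' 2
        _ = _ := by ring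
    · refine Nat.lt_of_mul_lt_mul_right (a := r') ?_
      calc r * r' < r * r := Nat.mul_lt_mul_of_pos_left hrr (by omega)
        _ = r ^ 2 := by ring
        _ ≤ Nat.card ↥⁅V1, R⁆ * r' ^ 2 := hw'
        _ = _ := by ring
  -- Frattini
  set T := (S : Subgroup G) ⊓ C
  have hjT : jHatOf (S : Subgroup G) ≤ T := le_inf (jHatOf_le _) hjC
  obtain ⟨h, hh, n, hn, rfl⟩ := frattini_normal S C g
  refine ⟨h * n * h⁻¹, hCZ ((inferInstance : C.Normal).conj_mem n hn h), h, ?_, ?_, by group⟩
  · rw [show J = Cfsg.thompsonSubgroupOf 2 T from (thompsonSubgroupOf_eq_of_le (inf_le_left : T ≤ (S : Subgroup G)) ((thompson_le_jHatOf _).trans hjT)).symm]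
    exact normalizer_le_normalizer_thompsonSubgroupOf _ hh
  · rw [← jHatOf_eq_of_le (inf_le_left : T ≤ (S : Subgroup G)) hjT]
    exact normalizer_le_normalizer_jHatOf _ hh

/-- The Sylow 2-subgroup of a normal subgroup cut out by `S`. -/
theorem exists_sylow_inf (S : Sylow 2 G) (N : Subgroup G) [N.Normal] :
    ∃ T : Sylow 2 N, (T : Subgroup N).map N.subtype = (S : Subgroup G) ⊓ N := by
  haveI := two_fact
  have h := isMaxPIn_inf S N
  refine ⟨{
    toSubgroup := ((S : Subgroup G) ⊓ N).subgroupOf N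
    isPGroup' := h.2.1.comap_subtype
    is_maximal' := fun {X} hX hle => ?_ }, map_subgroupOf_eq_of_le h.1⟩
  have e := h.2.2 (X.map N.subtype) (map_subtype_le X) (hX.map _)
    (by rw [← map_subgroupOf_eq_of_le h.1]; exact map_mono hle)
  exact map_injective N.subtype_injective (e.trans (map_subgroupOf_eq_of_le h.1).symm)

theorem char_two_normal (hchar : centralizer (Cfsg.pCore 2 G : Set G) ≤ Cfsg.pCore 2 G)
    {D : Subgroup G} [D.Normal] :
    centralizer (Cfsg.pCore 2 ↥(centralizer (D : Set G)) : Set ↥(centralizer (D : Set G))) ≤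
      Cfsg.pCore 2 ↥(centralizer (D : Set G)) := by
  haveI := two_fact
  set Q := Cfsg.pCore 2 G
  haveI hQn : Q.Normal := CfsgLib.Solvable.pCore_normal (p := 2) G
  have hQ : IsPGroup 2 Q := CfsgLib.Solvable.pCore_isPGroup (p := 2) G
  set G0 := centralizer (D : Set G)
  set P := Cfsg.pCore 2 ↥G0
  haveI : P.Normal := CfsgLib.Solvable.pCore_normal (p := 2) G0
  refine CfsgLib.Solvable.le_pCore inferInstance fun x => ?_
  obtain ⟨j, hj⟩ := exists_two_pow_odd (x : G0)
  refine ⟨j, ?_⟩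
  set z := (x : G0) ^ 2 ^ j
  have hz : z ∈ centralizer (P : Set G0) := pow_mem x.2 _
  have hzQ : (z : G) ∈ Q := hchar fun q hq => by
    have he : ⁅(z : G), q⁆ ∈ Q := by
      rw [commutatorElement_def]; exact Q.mul_mem (hQn.conj_mem q hq z) (Q.inv_mem hq)
    have he0 : ⁅(z : G), q⁆ ∈ G0 := by
      rw [commutatorElement_def, show (z : G) * q * (z : G)⁻¹ * q⁻¹ = (z : G) * (q * (z : G)⁻¹ * q⁻¹) by group]
      exact G0.mul_mem z.2 ((inferInstance : G0.Normal).conj_mem _ (G0.inv_mem z.2) q)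
    have heP : (⟨_, he0⟩ : G0) ∈ P := CfsgLib.Solvable.pCore_subgroupOf_le G0 he
    obtain ⟨k, hk⟩ := hQ ⟨_, he⟩
    exact (commute_of_odd_of_fixed (by rw [orderOf_coe]; exact hj) (congrArg Subtype.val hk)
      (congrArg Subtype.val (hz _ heP)).symm).symm
  obtain ⟨k, hk⟩ := hQ ⟨(z : G), hzQ⟩
  have h1 : (z : G) ∈ (⊥ : Subgroup G) :=
    mem_of_two_pow_mem (by rw [orderOf_coe]; exact hj) (mem_bot.2 (congrArg Subtype.val hk))
  exact Subtype.ext (Subtype.ext (mem_bot.1 h1))

theorem part_three : ∀ (k : ℕ) (G : Type u) [Group G] [Finite G], Nat.card G = k →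
    centralizer (Cfsg.pCore 2 G : Set G) ≤ Cfsg.pCore 2 G → S3Free G → KEven G → ∀ (S : Sylow 2 G) (g : G),
      ∃ c ∈ centralizer (omegaZ (jHatOf (S : Subgroup G)) : Set G),
        ∃ n ∈ normalizer (Cfsg.thompsonSubgroupOf 2 (S : Subgroup G) : Set G), g = c * n := by
  intro k
  induction k using Nat.strong_induction_on with
  | _ k ih =>
  intro G _ _ hk hchar hS3 hK S g
  haveI := two_fact
  set J := Cfsg.thompsonSubgroupOf 2 (S : Subgroup G)
  by_cases hE : EProp (S : Subgroup G)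
  · have hjS : jHatOf (S : Subgroup G) = (S : Subgroup G) :=
      le_antisymm (jHatOf_le _) (le_jHatOf le_rfl hE (thompsonSubgroupOf_le 2 _))
    obtain ⟨c, hc, n, hn, -, rfl⟩ := part_one hchar hS3 hK S g
    refine ⟨c, centralizer_le (SetLike.coe_subset_coe.2 ?_) hc, n, hn, rfl⟩
    rw [hjS]
    exact omegaOne_le 2 _
  simp only [EProp, not_forall] at hE
  obtain ⟨V, hV, hVne⟩ := hE
  set Q := Cfsg.pCore 2 G
  have hVQ : V ≤ Q := hV.le_core hS3 hK hchar S
  set D := Subgroup.normalClosure (V : Set G)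
  haveI hDn : D.Normal := normalClosure_normal
  set G0 := centralizer (D : Set G) with hG0
  have hJ0 : J ≤ G0 := by
    simp only [J, thompsonSubgroupOf_eq]
    refine sSup_le fun A hA => ?_
    rw [hG0, le_centralizer_iff]
    show closure (Group.conjugatesOfSet (V : Set G)) ≤ _
    rw [closure_le]
    intro x hx a ha
    obtain ⟨v, hv, hxv⟩ := Group.mem_conjugatesOfSet_iff.1 hx
    obtain ⟨c, rfl⟩ := isConj_iff.1 hxv
    have h1 := map_conj_le_centralizer_iff.1
      (maxEA_conj_le_centralizer _ G rfl hS3 hK S V hV hVQ A hA c⁻¹) a ha v hv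
    rw [inv_inv] at h1
    calc a * (c * v * c⁻¹) = c * (c⁻¹ * a * c * v) * c⁻¹ := by group
      _ = c * v * c⁻¹ * a := by rw [← h1]; group
  have hG0ne : G0 ≠ ⊤ := fun h => hVne fun s _ => centralizer_le subset_normalClosure
    (show s ∈ centralizer (D : Set G) by rw [← hG0, h]; exact mem_top s)
  obtain ⟨T0, hT0⟩ := exists_sylow_inf S G0
  set T := (S : Subgroup G) ⊓ G0
  have hJT : J ≤ T := le_inf (thompsonSubgroupOf_le 2 _) hJ0
  have hJeq : Cfsg.thompsonSubgroupOf 2 T = J := thompsonSubgroupOf_eq_of_le inf_le_left hJT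
  obtain ⟨h, hh, n0, hn0, rfl⟩ := frattini_normal S G0 g
  have hhn : h * n0 * h⁻¹ ∈ G0 := (inferInstance : G0.Normal).conj_mem n0 hn0 h
  obtain ⟨c0, hc0, m0, hm0, he⟩ := ih (Nat.card G0)
    (hk ▸ lt_of_le_of_ne G0.card_le_card_group fun h => hG0ne (eq_top_of_card_eq G0 h))
    G0 rfl (char_two_normal hchar) (hS3.subgroup G0) (hK.normal (Subgroup.Normal.isSubnormal inferInstance))
    T0 ⟨_, hhn⟩
  have hj := jHatOf_map G0.subtype_injective (T0 : Subgroup G0)
  rw [hT0] at hj
  have hth := thompsonSubgroupOf_map (p := 2) G0.subtype_injective (T0 : Subgroup G0)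
  rw [hT0, hJeq] at hth
  refine ⟨(c0 : G), ?_, (m0 : G) * h, mul_mem ?_ ?_, ?_⟩
  · have hWmem : omegaZ (jHatOf (S : Subgroup G)) ≤ omegaZ (jHatOf T) := by
      unfold omegaZ
      have hWJ : Cfsg.omegaOne 2 (jHatOf (S : Subgroup G) ⊓ centralizer (jHatOf (S : Subgroup G) : Set G)) ≤
          Cfsg.thompsonSubgroupOf 2 (S : Subgroup G) := by
        set W := Cfsg.omegaOne 2 (jHatOf (S : Subgroup G) ⊓ centralizer (jHatOf (S : Subgroup G) : Set G))
        obtain ⟨A, hA⟩ := exists_maxEAIn 2 (S : Subgroup G)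
        have hAJ : A ≤ Cfsg.thompsonSubgroupOf 2 (S : Subgroup G) := by
          rw [thompsonSubgroupOf_eq]; exact le_sSup hA
        have hWc : W ≤ centralizer (A : Set G) := (omegaOne_le 2 _).trans (inf_le_right.trans
          (centralizer_le (SetLike.coe_subset_coe.2 (hAJ.trans (thompson_le_jHatOf _)))))
        have := hA.2.2 (A ⊔ W) (sup_le hA.1 ((omegaOne_le 2 _).trans (inf_le_left.trans (jHatOf_le _))))
          (isEA_sup hA.2.1 (omegaCenter_isEA _) (le_centralizer_iff.1 hWc))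
        exact (le_sup_right.trans (eq_of_le_of_card_ge le_sup_left this).ge).trans hAJ
      have hWT : Cfsg.omegaOne 2 (jHatOf (S : Subgroup G) ⊓ centralizer (jHatOf (S : Subgroup G) : Set G)) ≤
          jHatOf T ⊓ centralizer (jHatOf T : Set G) :=
        le_inf (hWJ.trans (hJeq.ge.trans (thompson_le_jHatOf T))) ((omegaOne_le 2 _).trans (inf_le_right.trans
          (centralizer_le (SetLike.coe_subset_coe.2 (jHatOf_mono inf_le_left hJT)))))
      exact fun x hx => mem_omegaOne (hWT hx) ((omegaCenter_isEA _).2 x hx)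
    refine centralizer_le (SetLike.coe_subset_coe.2 hWmem) ?_
    intro w hw
    have h1 : w ∈ (omegaZ (jHatOf (T0 : Subgroup G0))).map G0.subtype := by
      unfold omegaZ
      rw [omegaOne_map G0.subtype_injective, ← map_inf_centralizer G0.subtype_injective, hj]
      exact hw
    obtain ⟨w', hw', rfl⟩ := h1
    exact congrArg Subtype.val (hc0 w' hw')
  · rw [show J = (Cfsg.thompsonSubgroupOf 2 (T0 : Subgroup G0)).map G0.subtype from hth.symm]
    exact le_normalizer_map G0.subtype ⟨m0, hm0, rfl⟩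
  · rw [← hJeq]
    exact normalizer_le_normalizer_thompsonSubgroupOf _ hh
  · have he' : h * n0 * h⁻¹ = (c0 : G) * m0 := congrArg Subtype.val he
    rw [← mul_assoc, ← he']
    group

end CfsgLib.TwoFact
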