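import Cfsg.Agent.Lib.TwoFact.Module
import Cfsg.Agent.Lib.S4Free.Basic
import Cfsg.Agent.Lib.Subnormal.Join

/-!
# Frattini arguments at the prime two
-/

set_option autoImplicit false
set_option linter.style.haveILetI false

namespace CfsgLib.TwoFact

open Subgroup
open scoped commutatorElement

universe u

variable {G : Type u} [Group G] [Finite G]

theorem isMaxPIn_inf (S : Sylow 2 G) (N : Subgroup G) [hN : N.Normal] :
    CfsgLib.S4Free.IsMaxPIn 2 ((S : Subgroup G) ⊓ N) N := by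
  haveI := two_fact
  refine ⟨inf_le_right, S.isPGroup'.to_le inf_le_left, fun P hP hPp hle => ?_⟩
  refine (eq_of_le_of_card_ge hle ?_).symm
  have h1 : Nat.card ↥((S : Subgroup G) ⊓ N) = 2 ^ (Nat.card N).factorization 2 := by
    rw [inf_comm]
    exact CfsgLib.Subnormal.card_inf_sylow 2 hN.isSubnormal S
  obtain ⟨k, hk⟩ := hPp.exists_card_eq
  rw [h1, hk]
  exact Nat.pow_le_pow_right two_pos
    ((Nat.prime_two.pow_dvd_iff_le_factorization Nat.card_pos.ne').1 (hk ▸ card_dvd_of_le hP))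

/-- The Frattini argument: `G = N(S ∩ N) N`. -/
theorem frattini_normal (S : Sylow 2 G) (N : Subgroup G) [hN : N.Normal] (g : G) :
    ∃ h ∈ normalizer (((S : Subgroup G) ⊓ N : Subgroup G) : Set G), ∃ n ∈ N, g = h * n := by
  haveI := two_fact
  set T := (S : Subgroup G) ⊓ N
  have hT := isMaxPIn_inf S N
  obtain ⟨m, hm, hmT⟩ := hT.exists_conj_le (P := T.map (MulAut.conj g).toMonoidHom) (by
    rintro _ ⟨t, ht, rfl⟩
    exact hN.conj_mem t ht.2 g) (hT.2.1.map _)
  refine ⟨m * g, ?_, g⁻¹ * m⁻¹ * g, by simpa using hN.conj_mem _ (inv_mem hm) g⁻¹, by group⟩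
  refine mem_normalizer_fintype fun t ht => ?_
  have := hmT (g * t * g⁻¹) ⟨t, ht, rfl⟩
  rw [show m * g * t * (m * g)⁻¹ = m * (g * t * g⁻¹) * m⁻¹ by group]
  exact this

/-- A subgroup containing a Sylow 2-subgroup and all elements of odd order is everything. -/
theorem eq_top_of_sylow_odd (S : Sylow 2 G) {X : Subgroup G} (hS : (S : Subgroup G) ≤ X)
    (hodd : ∀ g : G, Odd (orderOf g) → g ∈ X) : X = ⊤ := by
  haveI := two_fact
  rw [eq_top_iff]
  intro g _
  refine eq_top_of_card_eq X (Nat.dvd_antisymm X.card_subgroup_dvd_card ?_) ▸ mem_top g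
  rw [Nat.dvd_iff_prime_pow_dvd_dvd]
  intro p k hp hk
  haveI := Fact.mk hp
  rcases eq_or_ne p 2 with rfl | hp2
  · refine dvd_trans ?_ (card_dvd_of_le hS)
    rw [S.card_eq_multiplicity]
    exact pow_dvd_pow 2 ((hp.pow_dvd_iff_le_factorization Nat.card_pos.ne').1 hk)
  · obtain ⟨P, hP⟩ := Sylow.exists_subgroup_card_pow_prime p hk
    rw [← hP]
    refine card_dvd_of_le fun x hx => hodd x (Odd.of_dvd_nat ?_ (P.orderOf_dvd_natCard hx))
    rw [hP]
    exact (hp.odd_of_ne_two hp2).pow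

/-- Modulo a normal subgroup supplementing a Sylow 2-subgroup every element has 2-power order. -/
theorem two_pow_mem_of_sup_eq_top (S : Sylow 2 G) {N : Subgroup G} [hN : N.Normal]
    (h : N ⊔ (S : Subgroup G) = ⊤) (g : G) : ∃ k : ℕ, g ^ 2 ^ k ∈ N := by
  have hg : g ∈ (↑(N ⊔ (S : Subgroup G)) : Set G) := by rw [h]; trivial
  rw [Subgroup.normal_mul] at hg
  obtain ⟨n, hn, s, hs, rfl⟩ := hg
  obtain ⟨k, hk⟩ := S.isPGroup' ⟨s, hs⟩
  refine ⟨k, (QuotientGroup.eq_one_iff _).1 ?_⟩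
  rw [QuotientGroup.mk_pow, QuotientGroup.mk_mul, (QuotientGroup.eq_one_iff n).2 hn, one_mul,
    ← QuotientGroup.mk_pow, show s ^ 2 ^ k = 1 from congrArg Subtype.val hk]
  rfl

/-- The subgroup generated by the elements of odd order. -/
def oddClosure (G : Type*) [Group G] : Subgroup G := closure {g : G | Odd (orderOf g)}

instance oddClosure_normal : (oddClosure G).Normal := by
  refine ⟨fun x hx g => ?_⟩
  unfold oddClosure at *
  induction hx using closure_induction with
  | mem x hx =>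
    refine subset_closure ?_
    show Odd (orderOf (g * x * g⁻¹))
    rwa [← MulAut.conj_apply g x, MulEquiv.orderOf_eq]
  | one => simp
  | mul a b _ _ iha ihb =>
    rw [show g * (a * b) * g⁻¹ = (g * a * g⁻¹) * (g * b * g⁻¹) by group]
    exact mul_mem iha ihb
  | inv a _ iha =>
    rw [show g * a⁻¹ * g⁻¹ = (g * a * g⁻¹)⁻¹ by group]
    exact inv_mem iha

theorem exists_oddClosure_mul (S : Sylow 2 G) (g : G) :
    ∃ k ∈ oddClosure G, ∃ s ∈ (S : Subgroup G), g = k * s := by
  have h : oddClosure G ⊔ (S : Subgroup G) = ⊤ :=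
    eq_top_of_sylow_odd S le_sup_right fun x hx => mem_sup_left (subset_closure hx)
  have hg : g ∈ (↑(oddClosure G ⊔ (S : Subgroup G)) : Set G) := by rw [h]; trivial
  rw [Subgroup.normal_mul] at hg
  obtain ⟨k, hk, s, hs, rfl⟩ := hg
  exact ⟨k, hk, s, hs, rfl⟩

end CfsgLib.TwoFact
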