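import Cfsg.Agent.Lib.TwoFact.Factor
import Cfsg.Prelude.Def_ConjugacyFunctors

/-!
# `J_e` and `Ω₁ Z(Ĵ)` as functors on 2-groups
-/

set_option autoImplicit false
set_option linter.style.haveILetI false

namespace CfsgLib.TwoFact

open Subgroup CfsgLib.PLocal

universe u

/-- The Thompson subgroup functor. -/
abbrev jFunctor : ∀ (Q : Type u) [Group Q], Subgroup Q := fun Q _ => Cfsg.thompsonSubgroup 2 Q

/-- The functor `Ω₁ Z(Ĵ)`. -/
abbrev wFunctor : ∀ (Q : Type u) [Group Q], Subgroup Q := fun Q _ => omegaZ (Cfsg.jHat Q)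

variable {G : Type u} [Group G]

theorem omegaZ_map {H : Type*} [Group H] {f : G →* H} (hf : Function.Injective f) (U : Subgroup G) :
    (omegaZ U).map f = omegaZ (U.map f) := by
  unfold omegaZ
  rw [omegaOne_map hf, map_inf_centralizer hf]

theorem inducedFunctor_wFunctor (U : Subgroup G) :
    Cfsg.inducedFunctor (G := G) wFunctor U = omegaZ (jHatOf U) :=
  omegaZ_map U.subtype_injective _

theorem normalizer_le_normalizer_omegaZ (U : Subgroup G) :
    normalizer (U : Set G) ≤ normalizer (omegaZ U : Set G) := fun g hg =>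
  mem_normalizer_of_map_conj_eq (by
    rw [omegaZ_map (MulAut.conj g).injective, map_conj_eq_of_mem_normalizer hg])

theorem jHatOf_top : jHatOf (⊤ : Subgroup G) = Cfsg.jHat G := by
  rw [jHatOf_eq, Cfsg.jHat]
  congr 1
  ext X
  show X ≤ ⊤ ∧ EProp X ∧ Cfsg.thompsonSubgroupOf 2 (⊤ : Subgroup G) ≤ X ↔ Cfsg.IsEGroup ↥X ∧ Cfsg.thompsonSubgroup 2 G ≤ X
  rw [thompsonSubgroupOf_top]
  exact ⟨fun h => ⟨isEGroup_subgroup_iff.2 h.2.1, h.2.2⟩, fun h => ⟨le_top, isEGroup_subgroup_iff.1 h.1, h.2⟩⟩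

variable [Finite G]

theorem omegaZ_le_maxEA {U A : Subgroup G} (hA : A ∈ maxEAIn 2 U) : omegaZ U ≤ A := by
  have hWU : omegaZ U ≤ U := (omegaOne_le 2 _).trans inf_le_left
  have hWA : omegaZ U ≤ centralizer (A : Set G) :=
    (omegaOne_le 2 _).trans (inf_le_right.trans (centralizer_le (SetLike.coe_subset_coe.2 hA.1)))
  exact le_sup_right.trans (eq_of_le_of_card_ge le_sup_left (hA.2.2 (A ⊔ omegaZ U) (sup_le hA.1 hWU)
    (isEA_sup hA.2.1 (omegaCenter_isEA U) (le_centralizer_iff.1 hWA)))).ge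

theorem omegaZ_le_thompson (U : Subgroup G) : omegaZ U ≤ Cfsg.thompsonSubgroupOf 2 U := by
  obtain ⟨A, hA⟩ := exists_maxEAIn 2 U
  refine (omegaZ_le_maxEA hA).trans ?_
  rw [thompsonSubgroupOf_eq]
  exact le_sSup hA

theorem omegaZ_le_omegaZ_jHatOf (U : Subgroup G) : omegaZ U ≤ omegaZ (jHatOf U) := fun _ hx =>
  mem_omegaOne ⟨(omegaZ_le_thompson U).trans (thompson_le_jHatOf U) hx,
    centralizer_le (SetLike.coe_subset_coe.2 (jHatOf_le U)) (omegaOne_le 2 _ hx).2⟩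
    ((omegaCenter_isEA U).2 _ hx)

theorem jFunctor_isCharP : Cfsg.IsCharPFunctor.{u} 2 jFunctor := by
  haveI : Fact (Nat.Prime 2) := ⟨Nat.prime_two⟩
  refine ⟨fun Q _ _ hQ hne => thompsonSubgroup_ne_bot ?_, fun Q R _ _ _ _ φ => thompsonSubgroup_map_equiv φ⟩
  obtain ⟨n, hn⟩ := hQ.exists_card_eq
  rw [hn]
  refine dvd_pow_self 2 fun h => ?_
  rw [h, pow_zero] at hn
  exact (Finite.one_lt_card_iff_nontrivial.2 hne).ne' hn

theorem wFunctor_isCharP : Cfsg.IsCharPFunctor.{u} 2 wFunctor := by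
  haveI : Fact (Nat.Prime 2) := ⟨Nat.prime_two⟩
  refine ⟨fun Q _ _ hQ hne hbot => ?_, fun Q R _ _ _ hQ φ => ?_⟩
  · haveI := hne
    haveI := hQ.center_nontrivial
    obtain ⟨k, hk⟩ := (hQ.to_subgroup (center Q)).exists_card_eq
    have h2 : 2 ∣ Nat.card (center Q) := by
      rw [hk]
      refine dvd_pow_self 2 fun h => ?_
      rw [h, pow_zero] at hk
      exact (Finite.one_lt_card_iff_nontrivial.2 (inferInstance : Nontrivial (center Q))).ne' hk
    obtain ⟨z, hz⟩ := exists_prime_orderOf_dvd_card' 2 h2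
    have hzm : (z : Q) ∈ omegaZ (⊤ : Subgroup Q) := mem_omegaOne
      ⟨mem_top _, fun q _ => mem_center_iff.1 z.2 q⟩ (by
        rw [← SubmonoidClass.coe_pow, ← hz, pow_orderOf_eq_one]; rfl)
    have hle := omegaZ_le_omegaZ_jHatOf (⊤ : Subgroup Q) hzm
    rw [jHatOf_top, show omegaZ (Cfsg.jHat Q) = ⊥ from hbot, mem_bot] at hle
    rw [show z = 1 from Subtype.ext hle, orderOf_one] at hz
    norm_num at hz
  · haveI : Finite R := Finite.of_equiv Q φ.toEquiv
    show (omegaZ (Cfsg.jHat Q)).map φ.toMonoidHom = omegaZ (Cfsg.jHat R)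
    rw [omegaZ_map φ.injective, ← jHatOf_top, ← jHatOf_top, jHatOf_map φ.injective,
      Subgroup.map_top_of_surjective _ φ.surjective]

end CfsgLib.TwoFact
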