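import Cfsg.Prelude.Def_LocalEven
import Mathlib.GroupTheory.IsSubnormal
import Mathlib.GroupTheory.QuotientGroup.Basic

/-!
# Groups whose composition factors of even order are Suzuki or `PSL₂(3^odd)`
-/

set_option autoImplicit false
set_option linter.style.haveILetI false

namespace CfsgLib.TwoFact

open Subgroup

universe u

/-- Every non-abelian composition factor of even order is Suzuki or `PSL₂(3^odd)`. -/
def KEven (G : Type u) [Group G] : Prop :=
  ∀ (H : Subgroup G), H.IsSubnormal → ∀ (N : Subgroup H) [N.Normal],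
    IsSimpleGroup (H ⧸ N) → ¬ IsMulCommutative (H ⧸ N) → Even (Nat.card (H ⧸ N)) →
      Cfsg.IsSuzukiOrPSL2OddPowerThree (H ⧸ N)

theorem isSuzukiOrPSL2_of_mulEquiv {X Y : Type u} [Group X] [Group Y] (e : X ≃* Y)
    (h : Cfsg.IsSuzukiOrPSL2OddPowerThree Y) : Cfsg.IsSuzukiOrPSL2OddPowerThree X := by
  rcases h with ⟨F, iF, iF', m, hm, hF, hn⟩ | ⟨F, iF, iF', n, hF, hn⟩
  · exact Or.inl ⟨F, iF, iF', m, hm, hF, hn.map e.trans⟩
  · exact Or.inr ⟨F, iF, iF', n, hF, hn.map e.trans⟩

theorem kEven_of_composition {G : Type u} [Group G]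
    (h : Cfsg.IsCompositionKGroupWith Cfsg.IsSuzukiOrPSL2OddPowerThree G) : KEven G :=
  fun H hH N _ hs hn _ => h H hH N hs hn

variable {G : Type u} [Group G]

/-- The simple quotient of a subnormal subgroup, read off a surjective image of it. -/
theorem factor_image {X : Type u} [Group X] (f : G →* X) (hf : Function.Surjective f)
    (hX : KEven X) (H : Subgroup G) (hH : H.IsSubnormal) (M : Subgroup H) [M.Normal]
    (hM : f.ker.subgroupOf H ≤ M) (hs : IsSimpleGroup (H ⧸ M)) (hn : ¬ IsMulCommutative (H ⧸ M))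
    (he : Even (Nat.card (H ⧸ M))) : Cfsg.IsSuzukiOrPSL2OddPowerThree (H ⧸ M) := by
  set g : H →* ↥(H.map f) := f.subgroupMap H
  have hg : Function.Surjective g := f.subgroupMap_surjective H
  haveI hMn : (M.map g).Normal := Subgroup.Normal.map inferInstance g hg
  have hker : g.ker ≤ M := fun x hx => hM (by
    have := congrArg Subtype.val (MonoidHom.mem_ker.1 hx)
    exact MonoidHom.mem_ker.2 this)
  have hK : ((QuotientGroup.mk' (M.map g)).comp g).ker = M := by
    ext x
    rw [MonoidHom.mem_ker, MonoidHom.comp_apply, QuotientGroup.mk'_apply, QuotientGroup.eq_one_iff]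
    refine ⟨fun ⟨y, hy, hyx⟩ => ?_, fun hx => ⟨x, hx, rfl⟩⟩
    have : y⁻¹ * x ∈ M := hker (by rw [MonoidHom.mem_ker, map_mul, map_inv, hyx, inv_mul_cancel])
    simpa using M.mul_mem hy this
  let e : H ⧸ M ≃* ↥(H.map f) ⧸ M.map g :=
    (QuotientGroup.quotientMulEquivOfEq hK.symm).trans (QuotientGroup.quotientKerEquivOfSurjective _
      ((QuotientGroup.mk'_surjective _).comp hg))
  refine isSuzukiOrPSL2_of_mulEquiv e (hX _ (hH.map hf) _ (e.isSimpleGroup_congr.1 hs) (fun hc => hn ?_) ?_)
  · exact ⟨⟨fun a b => e.injective (by rw [map_mul, map_mul]; exact hc.is_comm.comm _ _)⟩⟩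
  · rwa [← Nat.card_congr e.toEquiv]

theorem KEven.normal (h : KEven G) {N : Subgroup G} (hN : N.IsSubnormal) : KEven N := by
  intro H hH M _ hs hn he
  set e := H.equivMapOfInjective N.subtype N.subtype_injective
  haveI : (M.map e.toMonoidHom).Normal := Subgroup.Normal.map inferInstance _ e.surjective
  let q : H ⧸ M ≃* ↥(H.map N.subtype) ⧸ M.map e.toMonoidHom := QuotientGroup.congr M _ e rfl
  refine isSuzukiOrPSL2_of_mulEquiv q
    (h _ (hH.trans' hN) _ (q.isSimpleGroup_congr.1 hs) (fun hc => hn ?_) ?_)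
  · exact ⟨⟨fun a b => q.injective (by rw [map_mul, map_mul]; exact hc.is_comm.comm _ _)⟩⟩
  · rwa [← Nat.card_congr q.toEquiv]

theorem KEven.of_equiv {X : Type u} [Group X] (h : KEven X) (e : G ≃* X) : KEven G :=
  fun H hH M _ hs hn he => factor_image e.toMonoidHom e.surjective h H hH M (fun x hx => by
    have : x = 1 := Subtype.ext (e.map_eq_one_iff.1 hx)
    rw [this]; exact M.one_mem) hs hn he

theorem KEven.quotient (h : KEven G) {X : Type u} [Group X] (f : G →* X) (hf : Function.Surjective f) :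
    KEven X := by
  intro H hH M _ hs hn he
  set K := H.comap f
  set g : K →* H := f.subgroupComap H
  have hg : Function.Surjective g := f.subgroupComap_surjective_of_surjective H hf
  let e : K ⧸ M.comap g ≃* H ⧸ M :=
    (QuotientGroup.quotientMulEquivOfEq (M := M.comap g) (N := ((QuotientGroup.mk' M).comp g).ker) (by
      ext x; rw [MonoidHom.mem_ker, MonoidHom.comp_apply, QuotientGroup.mk'_apply,
        QuotientGroup.eq_one_iff, mem_comap])).trans
      (QuotientGroup.quotientKerEquivOfSurjective _ ((QuotientGroup.mk'_surjective _).comp hg))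
  refine isSuzukiOrPSL2_of_mulEquiv e.symm
    (h K (hH.comap f) (M.comap g) (e.isSimpleGroup_congr.2 hs) (fun hc => hn ?_) ?_)
  · exact ⟨⟨fun a b => e.symm.injective (by rw [map_mul, map_mul]; exact hc.is_comm.comm _ _)⟩⟩
  · rwa [Nat.card_congr e.toEquiv]

/-- An extension of groups of the kind is of the kind. -/
theorem KEven.extension {N : Subgroup G} [N.Normal] (hN : KEven N) {X : Type u} [Group X]
    (f : G →* X) (hf : Function.Surjective f) (hker : f.ker = N) (hX : KEven X) : KEven G := by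
  intro H hH M _ hs hn he
  by_cases hD : N.subgroupOf H ≤ M
  · exact factor_image f hf hX H hH M (hker ▸ hD) hs hn he
  set D := N.subgroupOf H
  haveI : D.Normal := normal_subgroupOf
  set j : ↥(H.subgroupOf N) →* H :=
    { toFun := fun x => ⟨x.1.1, x.2⟩
      map_one' := rfl
      map_mul' := fun x y => rfl }
  set g : ↥(H.subgroupOf N) →* H ⧸ M := (QuotientGroup.mk' M).comp j
  have hg : Function.Surjective g := by
    have hrange : g.range = D.map (QuotientGroup.mk' M) := by
      ext z
      constructor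
      · rintro ⟨x, rfl⟩; exact ⟨j x, x.1.2, rfl⟩
      · rintro ⟨y, hy, rfl⟩; exact ⟨⟨⟨y.1, hy⟩, y.2⟩, rfl⟩
    haveI := Subgroup.Normal.map (inferInstance : D.Normal) _ (QuotientGroup.mk'_surjective M)
    rcases hs.eq_bot_or_eq_top_of_normal (D.map (QuotientGroup.mk' M)) inferInstance with h1 | h1
    · exact absurd (by rwa [Subgroup.map_eq_bot_iff, QuotientGroup.ker_mk'] at h1) hD
    · rw [← MonoidHom.range_eq_top, hrange, h1]
  let e : _ ≃* H ⧸ M := QuotientGroup.quotientKerEquivOfSurjective g hg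
  refine isSuzukiOrPSL2_of_mulEquiv e.symm (hN _ hH.subgroupOf g.ker (e.isSimpleGroup_congr.2 hs)
    (fun hc => hn ?_) ?_)
  · exact ⟨⟨fun a b => e.symm.injective (by rw [map_mul, map_mul]; exact hc.is_comm.comm _ _)⟩⟩
  · rwa [Nat.card_congr e.toEquiv]

/-- A group with a normal Sylow 2-subgroup has no simple factor of even order. -/
theorem kEven_of_normal_two [Finite G] {T : Subgroup G} [T.Normal] (hT : IsPGroup 2 T) (hodd : Odd T.index) :
    KEven G := by
  intro H hH M _ hs hn he
  exfalso
  haveI : Fact (Nat.Prime 2) := ⟨Nat.prime_two⟩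
  haveI : (T.subgroupOf H).Normal := normal_subgroupOf
  haveI := Subgroup.Normal.map (inferInstance : (T.subgroupOf H).Normal) _ (QuotientGroup.mk'_surjective M)
  have h2 : IsPGroup 2 ↥((T.subgroupOf H).map (QuotientGroup.mk' M)) := (hT.comap_subtype).map _
  rcases hs.eq_bot_or_eq_top_of_normal ((T.subgroupOf H).map (QuotientGroup.mk' M)) inferInstance with h1 | h1
  · rw [Subgroup.map_eq_bot_iff, QuotientGroup.ker_mk'] at h1
    have hd : M.index ∣ T.index := (Subgroup.index_dvd_of_le h1).trans (relIndex_dvd_index_of_normal T H)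
    exact Nat.not_even_iff_odd.2 (hodd.of_dvd_nat hd) he
  · rw [h1] at h2
    haveI := (h2.of_equiv Subgroup.topEquiv).isNilpotent
    exact hn ⟨⟨fun a b => (IsSimpleGroup.comm_iff_isSolvable (G := H ⧸ M)).2 inferInstance a b⟩⟩

theorem kEven_of_isPGroup [Finite G] (h : IsPGroup 2 G) : KEven G :=
  kEven_of_normal_two (T := ⊤) (h.to_subgroup _) (by rw [index_top]; exact odd_one)

end CfsgLib.TwoFact
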