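import Cfsg.Agent.Lib.TwoFact.BadCore
import Cfsg.Agent.Lib.TwoFact.Frattini
import Cfsg.Agent.Lib.Fusion.GlaubermanThompson

/-!
# Conjugates of the elementary abelian subgroups of largest order centralise bad subgroups
-/

set_option autoImplicit false
set_option linter.style.haveILetI false
set_option maxHeartbeats 400000

namespace CfsgLib.TwoFact

open Subgroup CfsgLib.LocalEven CfsgLib.PLocal
open scoped commutatorElement

universe u

variable {G : Type u} [Group G] [Finite G]

omit [Finite G] in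
theorem map_conj_le_centralizer_iff {A V : Subgroup G} {g : G} :
    A.map (MulAut.conj g).toMonoidHom ≤ centralizer (V : Set G) ↔
      ∀ a ∈ A, ∀ v ∈ V, v * (g * a * g⁻¹) = g * a * g⁻¹ * v :=
  ⟨fun h a ha v hv => h ⟨a, ha, rfl⟩ v hv, fun h => by rintro _ ⟨a, ha, rfl⟩ v hv; exact h a ha v hv⟩

omit [Finite G] in
/-- Conjugation into a normal subgroup. -/
theorem map_conj_le_of_normal {A N : Subgroup G} [hN : N.Normal] (h : A ≤ N) (g : G) :
    A.map (MulAut.conj g).toMonoidHom ≤ N := by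
  rintro _ ⟨a, ha, rfl⟩
  exact hN.conj_mem a (h ha) g

/-- `N S` has the composition factors of `N`. -/
theorem KEven.sup_sylow (hK : KEven G) (S : Sylow 2 G) (N : Subgroup G) [N.Normal] :
    KEven ↥(N ⊔ (S : Subgroup G)) := by
  set M := N ⊔ (S : Subgroup G)
  haveI : (N.subgroupOf M).Normal := normal_subgroupOf
  refine KEven.extension ((hK.normal (N := N) (Subgroup.Normal.isSubnormal inferInstance)).of_equiv
    (subgroupOfEquivOfLe (le_sup_left : N ≤ M))) (QuotientGroup.mk' _) (QuotientGroup.mk'_surjective _)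
    (QuotientGroup.ker_mk' _) (kEven_of_isPGroup fun x => ?_)
  obtain ⟨⟨y, hy⟩, rfl⟩ := QuotientGroup.mk'_surjective _ x
  change y ∈ (↑(N ⊔ (S : Subgroup G)) : Set G) at hy
  rw [Subgroup.normal_mul] at hy
  obtain ⟨n, hn, s, hs, rfl⟩ := hy
  obtain ⟨k, hk⟩ := S.isPGroup' ⟨s, hs⟩
  refine ⟨k, ?_⟩
  have hn' : QuotientGroup.mk' (N.subgroupOf M) ⟨n, mem_sup_left hn⟩ = 1 :=
    (QuotientGroup.eq_one_iff _).2 (show n ∈ N from hn)
  rw [show (⟨n * s, _⟩ : M) = ⟨n, mem_sup_left hn⟩ * ⟨s, mem_sup_right hs⟩ from rfl, map_mul, hn', one_mul,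
    ← map_pow, show (⟨s, mem_sup_right hs⟩ : M) ^ 2 ^ k = 1 from
      Subtype.ext (by rw [SubmonoidClass.coe_pow]; exact congrArg Subtype.val hk), map_one]

/-- The normalizer of `S ∩ N` has the composition factors of `G / N` in even order. -/
theorem KEven.normalizer_inf (hK : KEven G) (S : Sylow 2 G) (N : Subgroup G) [hN : N.Normal] :
    KEven ↥(normalizer (((S : Subgroup G) ⊓ N : Subgroup G) : Set G)) := by
  haveI := two_fact
  set T := (S : Subgroup G) ⊓ N
  set H := normalizer (T : Set G)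
  haveI : (N.subgroupOf H).Normal := normal_subgroupOf
  let ψ : H →* G ⧸ N := (QuotientGroup.mk' N).comp H.subtype
  have hψ : Function.Surjective ψ := by
    intro x
    obtain ⟨g, rfl⟩ := QuotientGroup.mk'_surjective N x
    obtain ⟨h, hh, n, hn, rfl⟩ := frattini_normal S N g
    refine ⟨⟨h, hh⟩, ?_⟩
    show QuotientGroup.mk' N h = QuotientGroup.mk' N (h * n)
    rw [map_mul, (QuotientGroup.eq_one_iff n).2 hn |> fun e => (show QuotientGroup.mk' N n = 1 from e), mul_one]
  have hker : ψ.ker = N.subgroupOf H := by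
    ext x
    exact QuotientGroup.eq_one_iff (x : G)
  set T' := (T.subgroupOf H).subgroupOf (N.subgroupOf H)
  haveI : (T.subgroupOf H).Normal := normal_in_normalizer
  haveI : T'.Normal := normal_subgroupOf
  have hTp : IsPGroup 2 T := S.isPGroup'.to_le inf_le_left
  have hTH : T.subgroupOf H ≤ N.subgroupOf H := fun x hx => (mem_inf.1 hx).2
  have hcT : Nat.card T' = 2 ^ (Nat.card N).factorization 2 := by
    rw [Nat.card_congr (subgroupOfEquivOfLe hTH).toEquiv,
      Nat.card_congr (subgroupOfEquivOfLe le_normalizer).toEquiv]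
    show Nat.card ↥((S : Subgroup G) ⊓ N) = _
    rw [inf_comm]
    exact CfsgLib.Subnormal.card_inf_sylow 2 hN.isSubnormal S
  refine KEven.extension (kEven_of_normal_two (T := T') (hTp.comap_subtype.comap_subtype) ?_)
    ψ hψ hker (hK.quotient _ (QuotientGroup.mk'_surjective N))
  have hd : Nat.card ↥(N.subgroupOf H) ∣ Nat.card N :=
    card_dvd_of_injective ((H.subtype.comp (N.subgroupOf H).subtype).codRestrict N fun x => x.2)
      (fun x y h => Subtype.ext (Subtype.ext (by have hh := congrArg Subtype.val h; exact hh)))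
  rw [← T'.card_mul_index, hcT] at hd
  have hd' : 2 ^ (Nat.card N).factorization 2 * T'.index ∣
      2 ^ (Nat.card N).factorization 2 * (Nat.card N / 2 ^ (Nat.card N).factorization 2) := by
    rwa [Nat.ordProj_mul_ordCompl_eq_self]
  refine Odd.of_dvd_nat ?_ ((Nat.mul_dvd_mul_iff_left (pow_pos two_pos _)).1 hd')
  exact Nat.not_even_iff_odd.1 fun h => Nat.not_dvd_ordCompl Nat.prime_two Nat.card_pos.ne'
    (even_iff_two_dvd.1 h)

/-- The statement for a proper subgroup containing the Sylow subgroup, pushed into `G`. -/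
theorem proper_step {k : ℕ} (hk : Nat.card G = k)
    (ih : ∀ i < k, ∀ (X : Type u) [Group X] [Finite X], Nat.card X = i → S3Free X → KEven X →
      ∀ (S : Sylow 2 X) (V : Subgroup X), Bad (S : Subgroup X) V → V ≤ Cfsg.pCore 2 X →
        ∀ A ∈ maxEAIn 2 (S : Subgroup X), ∀ g : X,
          A.map (MulAut.conj g).toMonoidHom ≤ centralizer (V : Set X))
    (hS3 : S3Free G) (S : Sylow 2 G) {H : Subgroup G} (hH : H ≠ ⊤) (hKH : KEven H)
    (hSH : (S : Subgroup G) ≤ H) {V : Subgroup G} (hV : Bad (S : Subgroup G) V) (hVQ : V ≤ Cfsg.pCore 2 G)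
    {A : Subgroup G} (hA : A ∈ maxEAIn 2 (S : Subgroup G)) {g : G} (hg : g ∈ H) :
    A.map (MulAut.conj g).toMonoidHom ≤ centralizer (V : Set G) := by
  have hlt : Nat.card H < k := by
    rw [← hk]
    exact lt_of_le_of_ne H.card_le_card_group fun h => hH (eq_top_of_card_eq H h)
  have hVQ' : V.subgroupOf H ≤ Cfsg.pCore 2 H :=
    (comap_mono hVQ).trans (CfsgLib.Solvable.pCore_subgroupOf_le H)
  have hA' : A.subgroupOf H ∈ maxEAIn 2 ((S : Subgroup G).subgroupOf H) := by
    have h1 := maxEAIn_map (p := 2) H.subtype_injective ((S : Subgroup G).subgroupOf H)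
    rw [map_subgroupOf_eq_of_le hSH] at h1
    obtain ⟨A', hA', he⟩ := h1 ▸ hA
    have : A' = A.subgroupOf H := map_injective H.subtype_injective
      (he.trans (map_subgroupOf_eq_of_le (hA.1.trans hSH)).symm)
    exact this ▸ hA'
  have := ih _ hlt H rfl (hS3.subgroup H) hKH (S.subtype hSH) (V.subgroupOf H)
    (hV.subgroupOf hSH) hVQ' (A.subgroupOf H) hA' ⟨g, hg⟩
  rw [map_conj_le_centralizer_iff] at this ⊢
  intro a ha v hv
  exact congrArg Subtype.val (this ⟨a, hSH (hA.1 ha)⟩ ha ⟨v, hSH (hV.le hv)⟩ hv)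

/-- The case without proper factorisation. -/
theorem le_centralizer_closure_of_dich (hS3 : S3Free G) (hK : KEven G) (S : Sylow 2 G) {V : Subgroup G}
    (hV : Bad (S : Subgroup G) V) (hVQ : V ≤ Cfsg.pCore 2 G) {A : Subgroup G}
    (hA : A ∈ maxEAIn 2 (S : Subgroup G)) (hdich : Dich A) (hAQ : ¬ A ≤ Cfsg.pCore 2 G) :
    A ≤ centralizer (Subgroup.normalClosure (V : Set G) : Set G) := by
  haveI := two_fact
  by_contra hne
  set Q := Cfsg.pCore 2 G
  haveI hQn : Q.Normal := CfsgLib.Solvable.pCore_normal (p := 2) G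
  have hQ : IsPGroup 2 Q := CfsgLib.Solvable.pCore_isPGroup (p := 2) G
  have hQS : Q ≤ (S : Subgroup G) := CfsgLib.Solvable.pCore_le_sylow S
  set D := Subgroup.normalClosure (V : Set G) with hDdef
  haveI hDn : D.Normal := normalClosure_normal
  have hDea : Cfsg.IsElementaryAbelian 2 D := hV.normalClosure_ea hQS hVQ
  haveI := hDea.1
  haveI := hA.2.1.1
  have hDQ : D ≤ Q := normalClosure_le_normal hVQ
  have hVD : V ≤ D := subset_normalClosure
  have hAV : A ≤ centralizer (V : Set G) := hV.maxEA_le hA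
  have hDV : ∀ X : Subgroup G, X ≤ D → X ≤ V → D ≤ V → False := fun X _ _ h => hne (by
    rwa [show D = V from le_antisymm h hVD])
  -- an element of odd order moves `D`
  obtain ⟨g0, hg0, hg0D⟩ : ∃ g : G, Odd (orderOf g) ∧ g ∉ centralizer (D : Set G) := by
    by_contra! hcon
    refine hDV ⊥ bot_le bot_le ?_
    haveI : V.Normal := normalizer_eq_top_iff.1 (eq_top_of_sylow_odd S hV.norm fun g hg =>
      centralizer_le_normalizer _ (centralizer_le (SetLike.coe_subset_coe.2 hVD) (hcon g hg)))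
    exact normalClosure_le_normal le_rfl
  have hACQ : A ⊓ centralizer (D : Set G) ≤ Q :=
    (hdich _ inferInstance).resolve_left fun h => by
      obtain ⟨k, hk⟩ := h g0
      exact hg0D (mem_of_two_pow_mem hg0 hk)
  set α := Nat.card A
  set β := Nat.card ↥(A ⊓ Q)
  set γ := Nat.card ↥(A ⊓ centralizer (D : Set G))
  set δ := Nat.card D
  set φ := Nat.card ↥(D ⊓ centralizer (A : Set G))
  have hβα : β < α := by
    refine lt_of_le_of_ne (card_le_of_le inf_le_left) fun h => hAQ ?_
    rw [← inf_eq_left]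
    exact eq_of_le_of_card_ge inf_le_left h.ge
  have hγβ : γ ≤ β := card_le_of_le (le_inf inf_le_left hACQ)
  have hγpos : 0 < γ := Nat.card_pos
  have hφpos : 0 < φ := Nat.card_pos
  have hδpos : 0 < δ := Nat.card_pos
  -- maximality of `A`
  have hmax : γ * δ ≤ α * φ := by
    have hle : A ⊓ centralizer (D : Set G) ≤ centralizer (D : Set G) := inf_le_right
    have h1 := hA.2.2 ((A ⊓ centralizer (D : Set G)) ⊔ D) (sup_le (inf_le_left.trans hA.1) (hDQ.trans hQS))
      (isEA_sup (isEA_mono hA.2.1 inf_le_left) hDea hle)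
    have h2 := CfsgLib.PLoc.card_sup_mul_card_inf (hle.trans (centralizer_le_normalizer _))
    rw [← h2]
    refine Nat.mul_le_mul h1 (card_le_of_le fun x hx => ⟨hx.2, fun a ha => ?_⟩)
    exact setLike_mul_comm ha hx.1.1
  -- telescoping
  have htel : ∀ R : Subgroup G, R ≤ Q → ⁅R, R⁆ ≤ centralizer (D : Set G) →
      (∀ r ∈ R, r ^ 2 ∈ centralizer (D : Set G)) → ¬ R ≤ centralizer (D : Set G) →
      D ⊓ centralizer (A : Set G) ≤ centralizer (R : Set G) →
        Nat.card R ^ 3 * φ ^ 2 < δ ^ 2 * Nat.card ↥(R ⊓ centralizer (D : Set G)) ^ 3 := by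
    intro R hRQ h1 h2 h3 h4
    refine lt_of_le_of_lt (Nat.mul_le_mul_left _ (Nat.pow_le_pow_left ?_ 2))
      (hV.telescope hQS hDea.1 hRQ h1 h2 h3)
    exact card_le_of_le (le_inf inf_le_left h4)
  have htelA : γ < β → β ^ 3 * φ ^ 2 < δ ^ 2 * γ ^ 3 := by
    intro hlt
    have e : A ⊓ Q ⊓ centralizer (D : Set G) = A ⊓ centralizer (D : Set G) :=
      le_antisymm (le_inf (inf_le_left.trans inf_le_left) inf_le_right)
        (le_inf (le_inf inf_le_left hACQ) inf_le_right)
    have := htel (A ⊓ Q) inf_le_right (by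
      refine le_trans (commutator_mono inf_le_left inf_le_left) ?_
      rw [(commutator_eq_bot_iff_le_centralizer).2 (le_centralizer_iff_isMulCommutative.2 inferInstance)]
      exact bot_le) (fun r hr => by rw [hA.2.1.2 r hr.1]; exact one_mem _)
      (fun h => by
        apply hlt.not_ge
        exact card_le_of_le (le_inf inf_le_left h))
      (inf_le_right.trans (centralizer_le (SetLike.coe_subset_coe.2 inf_le_left)))
    rwa [e] at this
  set E := ⁅D, Q⁆ with hEdef
  haveI hEn : E.Normal := commutator_normal D Q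
  have hED : E ≤ D := commutator_le_left D Q
  have hEea : Cfsg.IsElementaryAbelian 2 E := isEA_mono hDea hED
  by_cases hE : ∀ g : G, Odd (orderOf g) → g ∈ centralizer (E : Set G)
  swap
  · -- an element of odd order moves `E`
    push Not at hE
    obtain ⟨g, hg, hgE⟩ := hE
    obtain ⟨m, hm, hgm⟩ : ∃ m ∈ E, ⁅g, m⁆ ∉ (⊥ : Subgroup G) := by
      by_contra! hcon
      exact hgE fun m hm => ((commutatorElement_eq_one_iff_mul_comm).1 (mem_bot.1 (hcon m hm))).symm
    obtain ⟨hb1, -⟩ := section_bound hS3 hK hA.2.1 hdich (M := E) (M0 := ⊥) bot_le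
      (fun x hx => mem_bot.2 (by rw [← pow_two]; exact hEea.2 x hx)) hg hm hgm
    obtain ⟨g', hg', hg'D⟩ : ∃ g : G, Odd (orderOf g) ∧ ∃ d ∈ D, ⁅g, d⁆ ∉ E := by
      by_contra! hcon
      refine hDV ⊥ bot_le bot_le ?_
      have hVE : D ≤ V ⊔ E := by
        haveI : (V ⊔ E).Normal := normalizer_eq_top_iff.1 (eq_top_of_sylow_odd S
          (le_normalizer_iff.2 fun s hs x hx => by
            rw [← SetLike.mem_coe, Subgroup.mul_normal] at hx ⊢
            obtain ⟨v, hv, e, he, rfl⟩ := hx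
            exact ⟨s * v * s⁻¹, (mem_normalizer_iff.1 (hV.norm hs) v).1 hv, s * e * s⁻¹,
              hEn.conj_mem e he s, by group⟩)
          fun g hg => mem_normalizer_fintype fun x hx => by
            have h1 := (V ⊔ E).mul_mem (mem_sup_right (hcon g hg x (sup_le hVD hED hx))) hx
            rwa [commutatorElement_def, inv_mul_cancel_right] at h1)
        exact normalClosure_le_normal (SetLike.coe_subset_coe.2 le_sup_left)
      -- iterate `D = V [D, Q]`
      suffices hcl : ∀ (k : ℕ) (X : Subgroup G), Nat.card X = k → X.Normal → X ≤ Q → D ≤ V ⊔ X → D ≤ V from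
        hcl _ E rfl hEn (hED.trans hDQ) hVE
      intro k
      induction k using Nat.strong_induction_on with
      | _ k ih =>
      intro X hXk hXn hXQ hDX
      by_cases hX : X = ⊥
      · rwa [hX, sup_bot_eq] at hDX
      haveI := hXn
      have hne' := CfsgLib.GlaubermanThompson.commutator_ne_self hQ hXQ hX
      have hle : ⁅Q, X⁆ ≤ X := commutator_le_right Q X
      refine ih _ ?_ ⁅Q, X⁆ rfl (commutator_normal Q X) (hle.trans hXQ) (hVE.trans (sup_le le_sup_left ?_))
      · rw [← hXk]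
        exact lt_of_le_of_ne (card_le_of_le hle) fun h => hne' (eq_of_le_of_card_ge hle h.ge)
      · rw [hEdef, commutator_le]
        intro d hd q hq
        have hd' : d ∈ (↑(V ⊔ X) : Set G) := hDX hd
        rw [Subgroup.mul_normal] at hd'
        obtain ⟨v, hv, x, hx, rfl⟩ := hd'
        rw [show ⁅v * x, q⁆ = v * ⁅q, x⁆⁻¹ * v⁻¹ * ⁅v, q⁆ by simp only [commutatorElement_def]; group]
        refine mul_mem (mem_sup_right ((commutator_normal Q X).conj_mem _
          (inv_mem (commutator_mem_commutator hq hx)) v)) (mem_sup_left ?_)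
        have h1 := (mem_normalizer_iff.1 (hV.norm (hQS hq)) v⁻¹).1 (V.inv_mem hv)
        rw [commutatorElement_def, show v * q * v⁻¹ * q⁻¹ = v * (q * v⁻¹ * q⁻¹) by group]
        exact V.mul_mem hv h1
    obtain ⟨d, hd, hgd⟩ := hg'D
    obtain ⟨hb2, -⟩ := section_bound hS3 hK hA.2.1 hdich (M := D) (M0 := E) hED
      (fun x hx => by rw [← pow_two, hDea.2 x hx]; exact one_mem _) hg' hd hgd
    have h1 := hb1 (E ⊓ centralizer (A : Set G)) inf_le_left fun a ha f hf =>
      mem_bot.2 (commutatorElement_eq_one_iff_mul_comm.2 (hf.2 a ha))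
    have h2 := hb2 ((D ⊓ centralizer (A : Set G)) ⊔ E) (sup_le inf_le_left hED) fun a ha f hf => by
      change f ∈ (↑(D ⊓ centralizer (A : Set G) ⊔ E) : Set G) at hf
      rw [Subgroup.mul_normal] at hf
      obtain ⟨x, hx, e, he, rfl⟩ := hf
      have hax : a * x = x * a := hx.2 a ha
      rw [show ⁅a, x * e⁆ = (a * x) * e * a⁻¹ * e⁻¹ * x⁻¹ by simp only [commutatorElement_def]; group, hax,
        show x * a * e * a⁻¹ * e⁻¹ * x⁻¹ = x * ((a * e * a⁻¹) * e⁻¹) * x⁻¹ by group]
      exact hEn.conj_mem _ (E.mul_mem (hEn.conj_mem e he a) (E.inv_mem he)) x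
    have h3 := CfsgLib.PLoc.card_sup_mul_card_inf (H := D ⊓ centralizer (A : Set G)) (N := E)
      le_normalizer_of_normal
    rw [show D ⊓ centralizer (A : Set G) ⊓ E = E ⊓ centralizer (A : Set G) from
      le_antisymm (le_inf inf_le_right (inf_le_left.trans inf_le_right))
        (le_inf (inf_le_inf_right _ hED) inf_le_left)] at h3
    have hEpos : 0 < Nat.card E := Nat.card_pos
    have h4 : φ * α ^ 4 ≤ δ * β ^ 4 := by
      refine Nat.le_of_mul_le_mul_right ?_ hEpos
      calc φ * α ^ 4 * Nat.card E = (φ * Nat.card E) * (α ^ 2 * α ^ 2) := by ring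
        _ = (Nat.card ↥(D ⊓ centralizer (A : Set G) ⊔ E) * α ^ 2) *
              (Nat.card ↥(E ⊓ centralizer (A : Set G)) * α ^ 2) := by rw [← h3]; ring
        _ ≤ (δ * β ^ 2) * (Nat.card E * β ^ 2) := Nat.mul_le_mul h2 h1
        _ = _ := by ring
    have h5 : α ^ 3 * γ ≤ β ^ 4 := by
      refine (Nat.mul_le_mul_left_iff (show 0 < α * φ from mul_pos (by omega) hφpos)).1 ?_
      calc α * φ * (α ^ 3 * γ) = γ * (φ * α ^ 4) := by ring
        _ ≤ γ * (δ * β ^ 4) := Nat.mul_le_mul_left _ h4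
        _ = γ * δ * β ^ 4 := by ring
        _ ≤ _ := Nat.mul_le_mul_right _ hmax
    rcases hγβ.eq_or_lt with heq | hlt
    · rw [heq] at h5
      have : β ^ 3 * β < α ^ 3 * β :=
        Nat.mul_lt_mul_of_pos_right (Nat.pow_lt_pow_left hβα (by norm_num)) (by omega)
      rw [show β ^ 3 * β = β ^ 4 by ring] at this
      omega
    · have h6 := htelA hlt
      have h7 : β ^ 3 < α ^ 2 * γ := by
        refine Nat.lt_of_mul_lt_mul_right (a := φ ^ 2) ?_
        calc β ^ 3 * φ ^ 2 < δ ^ 2 * γ ^ 3 := h6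
          _ = (γ * δ) ^ 2 * γ := by ring
          _ ≤ (α * φ) ^ 2 * γ := Nat.mul_le_mul_right _ (Nat.pow_le_pow_left hmax 2)
          _ = _ := by ring
      have h8 : α * β ^ 3 < α * (α ^ 2 * γ) := Nat.mul_lt_mul_of_pos_left h7 (by omega)
      have h9 : β * β ^ 3 ≤ α * β ^ 3 := Nat.mul_le_mul_right _ hβα.le
      rw [show β * β ^ 3 = β ^ 4 by ring] at h9
      rw [show α * (α ^ 2 * γ) = α ^ 3 * γ by ring] at h8
      omega
  -- every element of odd order centralises `E`
  have hEV : E ≤ V := by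
    let D1 : Subgroup G :=
      { carrier := {d | d ∈ D ∧ ∀ q ∈ Q, ⁅d, q⁆ ∈ V}
        one_mem' := ⟨D.one_mem, fun q _ => by simp⟩
        mul_mem' := fun {a b} ha hb => ⟨D.mul_mem ha.1 hb.1, fun q hq => by
          rw [show ⁅a * b, q⁆ = a * ⁅b, q⁆ * a⁻¹ * ⁅a, q⁆ by simp only [commutatorElement_def]; group,
            setLike_mul_comm ha.1 (hED (commutator_mem_commutator hb.1 hq)), mul_inv_cancel_right]
          exact V.mul_mem (hb.2 q hq) (ha.2 q hq)⟩
        inv_mem' := fun {a} ha => ⟨D.inv_mem ha.1, fun q hq => by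
          rw [show ⁅a⁻¹, q⁆ = a⁻¹ * ⁅a, q⁆⁻¹ * a by simp only [commutatorElement_def]; group,
            mul_assoc, setLike_mul_comm (D.inv_mem (hED (commutator_mem_commutator ha.1 hq))) ha.1,
            inv_mul_cancel_left]
          exact V.inv_mem (ha.2 q hq)⟩ }
    have hVD1 : V ≤ D1 := fun v hv => ⟨hVD hv, fun q hq => by
      have h1 := (mem_normalizer_iff.1 (hV.norm (hQS hq)) v⁻¹).1 (V.inv_mem hv)
      rw [commutatorElement_def, show v * q * v⁻¹ * q⁻¹ = v * (q * v⁻¹ * q⁻¹) by group]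
      exact V.mul_mem hv h1⟩
    haveI : D1.Normal := by
      refine normalizer_eq_top_iff.1 (eq_top_of_sylow_odd S ?_ ?_)
      · refine le_normalizer_iff.2 fun s hs x hx => ⟨hDn.conj_mem x hx.1 s, fun q hq => ?_⟩
        rw [show ⁅s * x * s⁻¹, q⁆ = s * ⁅x, s⁻¹ * q * s⁆ * s⁻¹ by simp only [commutatorElement_def]; group]
        exact (mem_normalizer_iff.1 (hV.norm hs) _).1 (hx.2 _ (by simpa using hQn.conj_mem q hq s⁻¹))
      · intro g hg
        refine mem_normalizer_fintype fun x hx => ⟨hDn.conj_mem x hx.1 g, fun q hq => ?_⟩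
        have hq' : g⁻¹ * q * g ∈ Q := by simpa using hQn.conj_mem q hq g⁻¹
        rw [show ⁅g * x * g⁻¹, q⁆ = g * ⁅x, g⁻¹ * q * g⁆ * g⁻¹ by simp only [commutatorElement_def]; group,
          ← (hE g hg) _ (commutator_mem_commutator hx.1 hq'), mul_inv_cancel_right]
        exact hx.2 _ hq'
    have hD1 : D ≤ D1 := normalClosure_le_normal hVD1
    rw [hEdef, commutator_le]
    exact fun d hd q hq => (hD1 hd).2 q hq
  have hAE : A ≤ centralizer (E : Set G) := hAV.trans (centralizer_le (SetLike.coe_subset_coe.2 hEV))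
  set Q0 := Q ⊓ centralizer (E : Set G)
  set C0 := Q ⊓ centralizer (D : Set G)
  have hC0Q0 : C0 ≤ Q0 := inf_le_inf_left _ (centralizer_le (SetLike.coe_subset_coe.2 hED))
  have hsq : ∀ x ∈ Q0, x * x ∈ C0 := by
    intro x hx
    refine ⟨Q.mul_mem hx.1 hx.1, fun d hd => ?_⟩
    have he : x * d * x⁻¹ * d⁻¹ ∈ E := by
      have := commutator_mem_commutator hx.1 hd
      rwa [commutator_comm Q D, ← hEdef, commutatorElement_def] at this
    set e := x * d * x⁻¹ * d⁻¹ with hedef
    have h1 : x * e * x⁻¹ = e := by rw [← hx.2 e he, mul_inv_cancel_right]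
    have h2 : e * e = 1 := by rw [← pow_two]; exact hEea.2 e he
    have h3 : x * x * d * (x * x)⁻¹ = d := by
      calc x * x * d * (x * x)⁻¹ = (x * e * x⁻¹) * (x * d * x⁻¹) := by rw [hedef]; group
        _ = e * (e * d) := by rw [h1, hedef]; group
        _ = d := by rw [← mul_assoc, h2, one_mul]
    exact (mul_inv_eq_iff_eq_mul.1 h3).symm
  by_cases hM : ∀ g : G, Odd (orderOf g) → ∀ m ∈ Q0, ⁅g, m⁆ ∈ C0
  · -- odd elements centralise `Q0 / C0`: then `A ∩ Q` centralises `D`
    have hAQD : A ⊓ Q ≤ centralizer (D : Set G) := by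
      set V2 := D ⊓ centralizer ((A ⊓ Q : Subgroup G) : Set G)
      have hVV2 : V ≤ V2 := le_inf hVD (le_centralizer_iff.1 (inf_le_left.trans hAV))
      have hKN : oddClosure G ≤ normalizer (V2 : Set G) := by
        unfold oddClosure
        rw [closure_le]
        intro g hg
        refine mem_normalizer_fintype fun x hx => ⟨hDn.conj_mem x hx.1 g, fun z hz => ?_⟩
        have hc := hM g hg z ⟨hz.2, hAE hz.1⟩
        have hgx : g * x * g⁻¹ ∈ D := hDn.conj_mem x hx.1 g
        have h1 : (g * z * g⁻¹) * (g * x * g⁻¹) = g * x * g⁻¹ * (g * z * g⁻¹) := by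
          calc (g * z * g⁻¹) * (g * x * g⁻¹) = g * (z * x) * g⁻¹ := by group
            _ = g * (x * z) * g⁻¹ := by rw [hx.2 z hz]
            _ = _ := by group
        have h2 := hc.2 (g * x * g⁻¹) hgx
        have e : z = ⁅g, z⁆⁻¹ * (g * z * g⁻¹) := by simp only [commutatorElement_def]; group
        rw [e]
        exact ((show Commute (g * x * g⁻¹) ⁅g, z⁆ from h2).inv_right.mul_right h1.symm).symm
      have hDV2 : D ≤ V2 := by
        show closure (Group.conjugatesOfSet (V : Set G)) ≤ _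
        rw [closure_le]
        intro x hx
        obtain ⟨v, hv, hxv⟩ := Group.mem_conjugatesOfSet_iff.1 hx
        obtain ⟨g, rfl⟩ := isConj_iff.1 hxv
        obtain ⟨k, hk, s, hs, rfl⟩ := exists_oddClosure_mul S g
        rw [show k * s * v * (k * s)⁻¹ = k * (s * v * s⁻¹) * k⁻¹ by group]
        exact (mem_normalizer_iff.1 (hKN hk) _).1 (hVV2 ((mem_normalizer_iff.1 (hV.norm hs) v).1 hv))
      exact le_centralizer_iff.1 (hDV2.trans inf_le_right)
    have hγ : β ≤ γ := card_le_of_le (le_inf inf_le_left hAQD)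
    obtain ⟨d, hd, hgd⟩ : ∃ d ∈ D, ⁅g0, d⁆ ∉ (⊥ : Subgroup G) := by
      by_contra! hcon
      exact hg0D fun d hd => ((commutatorElement_eq_one_iff_mul_comm).1 (mem_bot.1 (hcon d hd))).symm
    obtain ⟨hb, -⟩ := section_bound hS3 hK hA.2.1 hdich (M := D) (M0 := ⊥) bot_le
      (fun x hx => mem_bot.2 (by rw [← pow_two]; exact hDea.2 x hx)) hg0 hd hgd
    have h1 := hb (D ⊓ centralizer (A : Set G)) inf_le_left fun a ha f hf =>
      mem_bot.2 (commutatorElement_eq_one_iff_mul_comm.2 (hf.2 a ha))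
    have h2 : α ≤ β := by
      refine (Nat.mul_le_mul_left_iff (show 0 < φ * α * β from mul_pos (mul_pos hφpos (by omega)) (by omega))).1 ?_
      calc φ * α * β * α = β * (φ * α ^ 2) := by ring
        _ ≤ β * (δ * β ^ 2) := Nat.mul_le_mul_left _ h1
        _ ≤ γ * (δ * β ^ 2) := Nat.mul_le_mul_right _ hγ
        _ = γ * δ * β ^ 2 := by ring
        _ ≤ α * φ * β ^ 2 := Nat.mul_le_mul_right _ hmax
        _ = _ := by ring
    omega
  · -- an element of odd order moves `Q0 / C0`
    push Not at hM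
    obtain ⟨g, hg, m, hm, hgm⟩ := hM
    obtain ⟨-, hb⟩ := section_bound hS3 hK hA.2.1 hdich (M := Q0) (M0 := C0) hC0Q0 hsq hg hm hgm
    set R0 := closure {z : G | ∃ a ∈ A, ∃ q ∈ Q0, z = ⁅a, q⁆} ⊔ C0
    have hR0Q0 : R0 ≤ Q0 := by
      refine sup_le ?_ hC0Q0
      rw [closure_le]
      rintro _ ⟨a, ha, q, hq, rfl⟩
      rw [commutatorElement_def]
      exact Q0.mul_mem ((inferInstance : Q0.Normal).conj_mem q hq a) (Q0.inv_mem hq)
    have hfix : D ⊓ centralizer (A : Set G) ≤ centralizer (R0 : Set G) := by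
      rw [le_centralizer_iff]
      refine sup_le ?_ (inf_le_right.trans (centralizer_le (SetLike.coe_subset_coe.2 inf_le_left)))
      rw [closure_le]
      rintro _ ⟨a, ha, q, hq, rfl⟩ x hx
      have he : q⁻¹ * x * q * x⁻¹ ∈ E := by
        have := commutator_mem_commutator (Q.inv_mem hq.1) hx.1
        rwa [commutator_comm Q D, ← hEdef, commutatorElement_def, inv_inv] at this
      have hax : a * x = x * a := hx.2 a ha
      have hax' : a⁻¹ * x = x * a⁻¹ := (show Commute a x from hax).inv_left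
      have hae : a⁻¹ * (q⁻¹ * x * q * x⁻¹) = (q⁻¹ * x * q * x⁻¹) * a⁻¹ :=
        (hAE (A.inv_mem ha) _ he).symm
      set e := q⁻¹ * x * q * x⁻¹ with hedef
      have h1 : ⁅a, q⁆ * x * ⁅a, q⁆⁻¹ = x := by
        calc ⁅a, q⁆ * x * ⁅a, q⁆⁻¹ = a * q * (a⁻¹ * e) * x * a * q⁻¹ * a⁻¹ := by
              simp only [hedef, commutatorElement_def]; group
          _ = a * q * e * (a⁻¹ * x) * a * q⁻¹ * a⁻¹ := by rw [hae]; group
          _ = a * x * a⁻¹ := by rw [hax', hedef]; group
          _ = x := by rw [hax, mul_inv_cancel_right]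
      exact (mul_inv_eq_iff_eq_mul.1 h1).symm
    have h1 := hb R0 le_sup_right hR0Q0 fun a ha q hq => mem_sup_left (subset_closure ⟨a, ha, q, hq, rfl⟩)
    have hR0C : R0 ⊓ centralizer (D : Set G) = C0 :=
      le_antisymm (le_inf (inf_le_left.trans (hR0Q0.trans inf_le_left)) inf_le_right)
        (le_inf le_sup_right inf_le_right)
    have hR0ne : ¬ R0 ≤ centralizer (D : Set G) := by
      intro h
      have hle : R0 ≤ C0 := (le_inf le_rfl h).trans hR0C.le
      have h2 : Nat.card C0 * α ^ 2 ≤ Nat.card C0 * β ^ 2 :=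
        h1.trans (Nat.mul_le_mul_right _ (card_le_of_le hle))
      have h3 := (Nat.mul_le_mul_left_iff (Nat.card_pos (α := C0))).1 h2
      exact absurd h3 (not_le.2 (Nat.pow_lt_pow_left hβα (by norm_num)))
    have hcomm : ∀ {x y : G}, x ∈ R0 → y ∈ R0 → ⁅x, y⁆ ∈ centralizer (D : Set G) := by
      intro x y hx hy
      have h2 := hsq _ (Q0.mul_mem (hR0Q0 hx) (hR0Q0 hy))
      have h3 := hsq _ (hR0Q0 hx)
      have h4 := hsq _ (hR0Q0 hy)
      haveI : C0.Normal := inferInstance
      have e : ⁅x, y⁆ = (x * y) * (x * y) * (y⁻¹ * (x * x)⁻¹ * y) * (y * y)⁻¹ := by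
        simp only [commutatorElement_def]; group
      rw [e]
      refine mul_mem (mul_mem h2.2 ?_) (inv_mem h4.2)
      have := (inferInstance : C0.Normal).conj_mem _ (C0.inv_mem h3) y⁻¹
      rw [inv_inv] at this
      exact this.2
    have h2 := htel R0 (hR0Q0.trans inf_le_left) (commutator_le.2 fun x hx y hy => hcomm hx hy)
      (fun r hr => by rw [pow_two]; exact (hsq r (hR0Q0 hr)).2) hR0ne hfix
    rw [hR0C] at h2
    set c := Nat.card C0
    set ρ0 := Nat.card R0
    have h3 : α ^ 4 * γ ^ 2 < β ^ 6 := by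
      refine Nat.lt_of_mul_lt_mul_right (a := c ^ 3 * α ^ 2 * φ ^ 2) ?_
      calc α ^ 4 * γ ^ 2 * (c ^ 3 * α ^ 2 * φ ^ 2) = (c * α ^ 2) ^ 3 * φ ^ 2 * γ ^ 2 := by ring
        _ ≤ (ρ0 * β ^ 2) ^ 3 * φ ^ 2 * γ ^ 2 :=
          Nat.mul_le_mul_right _ (Nat.mul_le_mul_right _ (Nat.pow_le_pow_left h1 3))
        _ = (ρ0 ^ 3 * φ ^ 2) * (β ^ 6 * γ ^ 2) := by ring
        _ < (δ ^ 2 * c ^ 3) * (β ^ 6 * γ ^ 2) :=
          Nat.mul_lt_mul_of_pos_right h2 (mul_pos (pow_pos (by omega) 6) (pow_pos hγpos 2))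
        _ = β ^ 6 * c ^ 3 * (γ * δ) ^ 2 := by ring
        _ ≤ β ^ 6 * c ^ 3 * (α * φ) ^ 2 := Nat.mul_le_mul_left _ (Nat.pow_le_pow_left hmax 2)
        _ = _ := by ring
    rcases hγβ.eq_or_lt with heq | hlt
    · rw [heq, show β ^ 6 = β ^ 4 * β ^ 2 by ring] at h3
      have := Nat.lt_of_mul_lt_mul_right h3
      exact absurd this (not_lt.2 (Nat.pow_le_pow_left hβα.le 4))
    · have h6 := htelA hlt
      have h7 : β ^ 3 < α ^ 2 * γ := by
        refine Nat.lt_of_mul_lt_mul_right (a := φ ^ 2) ?_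
        calc β ^ 3 * φ ^ 2 < δ ^ 2 * γ ^ 3 := h6
          _ = (γ * δ) ^ 2 * γ := by ring
          _ ≤ (α * φ) ^ 2 * γ := Nat.mul_le_mul_right _ (Nat.pow_le_pow_left hmax 2)
          _ = _ := by ring
      have h8 := Nat.pow_lt_pow_left h7 (two_ne_zero)
      rw [show (α ^ 2 * γ) ^ 2 = α ^ 4 * γ ^ 2 by ring, show (β ^ 3) ^ 2 = β ^ 6 by ring] at h8
      omega

/-- Every conjugate of an elementary abelian subgroup of largest order centralises a bad subgroup
inside `O₂`. -/
theorem maxEA_conj_le_centralizer : ∀ (k : ℕ) (G : Type u) [Group G] [Finite G], Nat.card G = k →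
    S3Free G → KEven G → ∀ (S : Sylow 2 G) (V : Subgroup G), Bad (S : Subgroup G) V →
      V ≤ Cfsg.pCore 2 G → ∀ A ∈ maxEAIn 2 (S : Subgroup G), ∀ g : G,
        A.map (MulAut.conj g).toMonoidHom ≤ centralizer (V : Set G) := by
  intro k
  induction k using Nat.strong_induction_on with
  | _ k ih =>
  intro G _ _ hk hS3 hK S V hV hVQ A hA g
  haveI := two_fact
  set Q := Cfsg.pCore 2 G
  haveI hQn : Q.Normal := CfsgLib.Solvable.pCore_normal (p := 2) G
  have hQS : Q ≤ (S : Subgroup G) := CfsgLib.Solvable.pCore_le_sylow S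
  by_cases hAQ : A ≤ Q
  · refine hV.maxEA_le ⟨(map_conj_le_of_normal hAQ g).trans hQS, isEA_map hA.2.1 _, fun B hB hBe => ?_⟩
    rw [← Nat.card_congr (A.equivMapOfInjective _ (MulAut.conj g).injective).toEquiv]
    exact hA.2.2 B hB hBe
  by_cases hI : ∃ N : Subgroup G, N.Normal ∧ N ⊔ (S : Subgroup G) ≠ ⊤ ∧ ¬ (S : Subgroup G) ⊓ N ≤ Q
  · obtain ⟨N, hN, hNS, hSN⟩ := hI
    haveI := hN
    set H := normalizer (((S : Subgroup G) ⊓ N : Subgroup G) : Set G) with hHdef
    have hSH : (S : Subgroup G) ≤ H := le_normalizer_iff.2 fun s hs x hx =>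
      ⟨(S : Subgroup G).mul_mem ((S : Subgroup G).mul_mem hs hx.1) ((S : Subgroup G).inv_mem hs),
        hN.conj_mem x hx.2 s⟩
    have hHne : H ≠ ⊤ := fun h => hSN (CfsgLib.Solvable.le_pCore (normalizer_eq_top_iff.1 h)
      (S.isPGroup'.to_le inf_le_left))
    have hKH : KEven H := hK.normalizer_inf S N
    obtain ⟨h, hh, n, hn, rfl⟩ := frattini_normal S N g
    -- the normal subgroup of `H` generated by the conjugates of `J`
    set J := Cfsg.thompsonSubgroupOf 2 (S : Subgroup G)
    set L := closure {x : G | ∃ c ∈ H, ∃ z ∈ J, x = c * z * c⁻¹}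
    have hLC : L ≤ centralizer (V : Set G) := by
      rw [closure_le]
      rintro _ ⟨c, hc, z, hz, rfl⟩
      have hJ : J.map (MulAut.conj c).toMonoidHom ≤ centralizer (V : Set G) := by
        simp only [J, thompsonSubgroupOf_eq]
        rw [sSup_eq_iSup, Subgroup.map_iSup, iSup_le_iff]
        intro B
        rw [Subgroup.map_iSup, iSup_le_iff]
        intro hB
        exact proper_step hk ih hS3 S hHne hKH hSH hV hVQ hB hc
      exact hJ ⟨z, hz, rfl⟩
    have hJH : J ≤ H := (thompsonSubgroupOf_le 2 _).trans hSH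
    have hLH : L ≤ H := by
      rw [closure_le]
      rintro _ ⟨c, hc, z, hz, rfl⟩
      exact H.mul_mem (H.mul_mem hc (hJH hz)) (H.inv_mem hc)
    have hJL : J ≤ L := fun z hz => subset_closure ⟨1, H.one_mem, z, hz, by group⟩
    haveI hLn : (L.subgroupOf H).Normal := by
      refine (normal_subgroupOf_iff_le_normalizer hLH).2 (le_normalizer_iff.2 fun c hc x hx => ?_)
      induction hx using closure_induction with
      | mem x hx =>
        obtain ⟨c', hc', z, hz, rfl⟩ := hx
        exact subset_closure ⟨c * c', H.mul_mem hc hc', z, hz, by group⟩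
      | one => simp
      | mul a b _ _ iha ihb =>
        rw [show c * (a * b) * c⁻¹ = (c * a * c⁻¹) * (c * b * c⁻¹) by group]
        exact mul_mem iha ihb
      | inv a _ iha =>
        rw [show c * a⁻¹ * c⁻¹ = (c * a * c⁻¹)⁻¹ by group]
        exact inv_mem iha
    -- `h = l w`
    obtain ⟨⟨w0, hw0H⟩, hw0, ⟨l0, hl0H⟩, hl0, hh0⟩ :=
      frattini_normal (S.subtype hSH) (L.subgroupOf H) ⟨h, hh⟩
    have hh0' : h = w0 * l0 := congrArg Subtype.val hh0
    have hwJ : w0 ∈ normalizer (J : Set G) := by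
      have hT : J = Cfsg.thompsonSubgroupOf 2 ((S : Subgroup G) ⊓ L) :=
        (thompsonSubgroupOf_eq_of_le inf_le_left (le_inf (thompsonSubgroupOf_le 2 _) hJL)).symm
      rw [hT]
      refine normalizer_le_normalizer_thompsonSubgroupOf _ ?_
      refine mem_normalizer_fintype fun x hx => ?_
      have := (mem_normalizer_iff.1 hw0 ⟨x, hSH hx.1⟩).1 ⟨hx.1, hx.2⟩
      exact this
    set l := w0 * l0 * w0⁻¹
    have hl : l ∈ centralizer (V : Set G) := hLC (by
      have := hLn.conj_mem _ hl0 (⟨w0, hw0H⟩ : H)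
      exact this)
    have hg' : h * n = l * (w0 * n) := by rw [hh0']; simp only [l]; group
    set S' := w0⁻¹ • S with hS'
    set V' := V.map (MulAut.conj w0⁻¹).toMonoidHom
    have hS'coe : (S' : Subgroup G) = (S : Subgroup G).map (MulAut.conj w0⁻¹).toMonoidHom := rfl
    have hV' : Bad (S' : Subgroup G) V' := hS'coe ▸ hV.conj w0⁻¹
    have hV'Q : V' ≤ Q := map_conj_le_of_normal hVQ _
    have hA' : A ∈ maxEAIn 2 (S' : Subgroup G) := by
      have hJ' : J.map (MulAut.conj w0⁻¹).toMonoidHom = J := map_conj_eq_of_mem_normalizer (inv_mem hwJ)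
      have hAS' : A ≤ (S' : Subgroup G) := by
        rw [hS'coe]
        refine le_trans ?_ (map_mono (thompsonSubgroupOf_le 2 _))
        rw [hJ']
        simp only [J, thompsonSubgroupOf_eq]
        exact le_sSup hA
      refine ⟨hAS', hA.2.1, fun B hB hBe => ?_⟩
      rw [hS'coe] at hB
      have he : (B.comap (MulAut.conj w0⁻¹).toMonoidHom).map (MulAut.conj w0⁻¹).toMonoidHom = B :=
        map_comap_eq_self_of_surjective (MulAut.conj w0⁻¹).surjective B
      have h1 := hA.2.2 (B.comap (MulAut.conj w0⁻¹).toMonoidHom)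
        (by rw [← map_le_map_iff_of_injective (f := (MulAut.conj w0⁻¹).toMonoidHom) (MulAut.conj w0⁻¹).injective, he]; exact hB)
        (isEA_of_map (f := (MulAut.conj w0⁻¹).toMonoidHom) (MulAut.conj w0⁻¹).injective (by rw [he]; exact hBe))
      rw [← he, card_map_of_injective (f := (MulAut.conj w0⁻¹).toMonoidHom) (MulAut.conj w0⁻¹).injective]
      exact h1
    have hne' : N ⊔ (S' : Subgroup G) ≠ ⊤ := by
      intro htop
      apply hNS
      have hN' : N.map (MulAut.conj w0⁻¹).toMonoidHom = N :=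
        map_conj_eq_of_mem_normalizer (by rw [normalizer_eq_top]; exact mem_top _)
      refine map_injective (f := (MulAut.conj w0⁻¹).toMonoidHom) (MulAut.conj w0⁻¹).injective ?_
      rw [Subgroup.map_sup, hN', ← hS'coe, htop]
      exact (map_top_of_surjective _ (MulAut.conj w0⁻¹).surjective).symm
    have hfin := proper_step hk ih hS3 S' hne' (hK.sup_sylow S' N) le_sup_right hV' hV'Q hA'
      (g := n) (mem_sup_left hn)
    rw [map_conj_le_centralizer_iff] at hfin ⊢
    intro a ha v hv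
    have h1 := hfin a ha (w0⁻¹ * v * w0⁻¹⁻¹) ⟨v, hv, rfl⟩
    set c := (w0 * n) * a * (w0 * n)⁻¹ with hc
    have h2 : v * c = c * v := by
      calc v * c = w0 * ((w0⁻¹ * v * w0⁻¹⁻¹) * (n * a * n⁻¹)) * w0⁻¹ := by rw [hc]; group
        _ = w0 * ((n * a * n⁻¹) * (w0⁻¹ * v * w0⁻¹⁻¹)) * w0⁻¹ := by rw [h1]
        _ = c * v := by rw [hc]; group
    rw [hg', show l * (w0 * n) * a * (l * (w0 * n))⁻¹ = l * c * l⁻¹ by rw [hc]; group]
    have hlv : Commute v l := hl v hv
    exact (hlv.mul_right h2).mul_right hlv.inv_right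
  push Not at hI
  have hdich : Dich A := by
    intro N hN
    haveI := hN
    by_cases hNS : N ⊔ (S : Subgroup G) = ⊤
    · exact Or.inl (two_pow_mem_of_sup_eq_top S hNS)
    · exact Or.inr ((inf_le_inf_right _ hA.1).trans (hI N hN hNS))
  have hAD := le_centralizer_closure_of_dich hS3 hK S hV hVQ hA hdich hAQ
  haveI : (Subgroup.normalClosure (V : Set G)).Normal := normalClosure_normal
  exact (map_conj_le_of_normal hAD g).trans (centralizer_le subset_normalClosure)

end CfsgLib.TwoFact
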