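import Cfsg.Agent.Lib.TwoFact.Sections
import Cfsg.Agent.Lib.LocalEven.SquareBound.Fixed
import Cfsg.Agent.Lib.LocalEven.SquareBound.Inverter
import Cfsg.Agent.Lib.PLocal.Thompson
import Mathlib.Algebra.Module.ZMod
import Mathlib.LinearAlgebra.Quotient.Basic

/-!
# The squared bound on modules for groups without `S₃`
-/

set_option autoImplicit false
set_option linter.style.haveILetI false
set_option maxHeartbeats 400000

namespace CfsgLib.TwoFact

open Subgroup Module CfsgLib.LocalEven

universe u v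

variable {G : Type u} [Group G] [Finite G]

theorem two_fact : Fact (Nat.Prime 2) := ⟨Nat.prime_two⟩

/-- Every normal subgroup either has a 2-group as quotient or meets `A` inside `O₂(G)`. -/
def Dich (A : Subgroup G) : Prop :=
  ∀ N : Subgroup G, N.Normal → (∀ g : G, ∃ k : ℕ, g ^ 2 ^ k ∈ N) ∨ A ⊓ N ≤ Cfsg.pCore 2 G

theorem mem_of_two_pow_mem {g : G} {N : Subgroup G} (hg : Odd (orderOf g)) {k : ℕ}
    (h : g ^ 2 ^ k ∈ N) : g ∈ N := by
  obtain ⟨m, hm⟩ := exists_pow_eq_self_of_coprime (x := g) (n := 2 ^ k)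
    (Nat.Coprime.pow_left k (Nat.coprime_two_left.2 hg))
  rw [← hm]
  exact pow_mem h m

theorem card_eq_inf_mul_map {X : Type*} [Group X] (A : Subgroup G) (f : G →* X) :
    Nat.card A = Nat.card ↥(A ⊓ f.ker) * Nat.card ↥(A.map f) := by
  have h1 : (f.comp A.subtype).range = A.map f := by rw [MonoidHom.range_comp, range_subtype]
  have h2 : Nat.card (f.comp A.subtype).ker = Nat.card ↥(A ⊓ f.ker) := by
    refine Nat.card_congr ⟨fun x => ⟨x.1.1, x.1.2, x.2⟩, fun x => ⟨⟨x.1, x.2.1⟩, x.2.2⟩, fun x => rfl, fun x => rfl⟩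
  have h3 := (f.comp A.subtype).ker.card_eq_card_quotient_mul_card_subgroup
  rw [Nat.card_congr (QuotientGroup.quotientKerEquivRange _).toEquiv, h1, h2] at h3
  rw [h3, mul_comm]

section

variable {V : Type v} [AddCommGroup V] [Module (ZMod 2) V] [Finite V]

/-- The bound when the image of `G` has no normal 2-subgroup. -/
theorem base_bound (hS : S3Free G) (hK : KEven G) (ρ : Representation (ZMod 2) G V)
    (hP : ∀ P : Subgroup G, P.Normal → ρ.ker ≤ P → (∀ x ∈ P, ∃ k : ℕ, x ^ 2 ^ k ∈ ρ.ker) → P ≤ ρ.ker)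
    {A : Subgroup G} (hA' : Cfsg.IsElementaryAbelian 2 (A.map (QuotientGroup.mk' ρ.ker))) {n : ℕ}
    (hn : Nat.card A = Nat.card ↥(A ⊓ ρ.ker) * 2 ^ n) :
    2 * n + finrank (ZMod 2) (SquareBound.fix ρ A) ≤ finrank (ZMod 2) V ∧
      2 * n ≤ finrank (ZMod 2) (SquareBound.comm ρ A) := by
  set N := ρ.ker
  set f := QuotientGroup.mk' N
  let σ : Representation (ZMod 2) (G ⧸ N) V := QuotientGroup.lift N ρ le_rfl
  have hσf : ∀ g, σ (f g) = ρ g := fun g => rfl
  have hσ : Function.Injective σ := by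
    intro x y hxy
    obtain ⟨a, rfl⟩ := QuotientGroup.mk'_surjective N x
    obtain ⟨b, rfl⟩ := QuotientGroup.mk'_surjective N y
    rw [hσf, hσf] at hxy
    refine (QuotientGroup.eq).2 (MonoidHom.mem_ker.2 ?_)
    rw [map_mul, ← hxy, ← map_mul, inv_mul_cancel, map_one]
  have hO : Cfsg.pCore 2 (G ⧸ N) = ⊥ := by
    rw [eq_bot_iff]
    intro x hx
    obtain ⟨a, rfl⟩ := QuotientGroup.mk'_surjective N x
    refine mem_bot.2 ((QuotientGroup.eq_one_iff a).2 ?_)
    haveI := CfsgLib.Solvable.pCore_normal (p := 2) (G ⧸ N)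
    refine hP ((Cfsg.pCore 2 (G ⧸ N)).comap f) inferInstance
      (fun y hy => mem_comap.2 (by rw [show f y = 1 from (QuotientGroup.eq_one_iff y).2 hy]; exact one_mem _))
      (fun y hy => ?_) hx
    obtain ⟨k, hk⟩ := CfsgLib.Solvable.pCore_isPGroup (p := 2) (G ⧸ N) ⟨f y, hy⟩
    exact ⟨k, (QuotientGroup.eq_one_iff _).1 (congrArg Subtype.val hk)⟩
  have hinv : ∀ B : Subgroup (G ⧸ N), Cfsg.IsElementaryAbelian 2 B → B ≠ ⊥ → SquareBound.Inverter B :=
    fun B hB hB1 => SquareBound.exists_inverter_of_even hO (hS.quotient f (QuotientGroup.mk'_surjective N))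
      (fun L hL hn he => by
        haveI := hL.2.2
        exact hK.quotient f (QuotientGroup.mk'_surjective N) L hL.1 (center ↥L) inferInstance hn he) hB hB1
  have hcard : Nat.card ↥(A.map f) = 2 ^ n := by
    have h := card_eq_inf_mul_map A f
    rw [QuotientGroup.ker_mk', hn] at h
    exact (Nat.eq_of_mul_eq_mul_left Nat.card_pos h).symm
  have hfix : SquareBound.fix σ (A.map f) = SquareBound.fix ρ A := by
    ext v
    rw [SquareBound.mem_fix, SquareBound.mem_fix]
    exact ⟨fun h a ha => h _ ⟨a, ha, rfl⟩, fun h x ⟨a, ha, hx⟩ => hx ▸ h a ha⟩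
  have hcomm : SquareBound.comm σ (A.map f) = SquareBound.comm ρ A := by
    refine le_antisymm (iSup_le ?_) (iSup_le fun a => le_iSup_of_le ⟨f a, a, a.2, rfl⟩ le_rfl)
    rintro ⟨_, a, ha, rfl⟩
    exact le_iSup_of_le ⟨a, ha⟩ le_rfl
  rw [← hfix, ← hcomm]
  exact ⟨SquareBound.fix_bound σ hσ hinv n _ hA' hcard, SquareBound.comm_bound σ hσ hinv hA' hcard⟩

/-- The bound on any module moved by an element of odd order. -/
theorem module_bound (hS : S3Free G) (hK : KEven G) {A : Subgroup G} (hA : Cfsg.IsElementaryAbelian 2 A)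
    (hdich : Dich A) {n : ℕ} (hn : Nat.card A = Nat.card ↥(A ⊓ Cfsg.pCore 2 G) * 2 ^ n) :
    ∀ (d : ℕ) (V : Type v) [AddCommGroup V] [Module (ZMod 2) V] [Finite V]
      (ρ : Representation (ZMod 2) G V) (g : G), finrank (ZMod 2) V = d → Odd (orderOf g) → ρ g ≠ 1 →
      2 * n + finrank (ZMod 2) (SquareBound.fix ρ A) ≤ finrank (ZMod 2) V ∧
        2 * n ≤ finrank (ZMod 2) (SquareBound.comm ρ A) := by
  intro d
  induction d using Nat.strong_induction_on with
  | _ d ih =>
  intro V _ _ _ ρ g hd hg hρg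
  haveI := two_fact
  by_cases hred : ∃ W : Submodule (ZMod 2) V, W ≠ ⊥ ∧ W ≠ ⊤ ∧ ∀ x : G, ∀ w ∈ W, ρ x w ∈ W
  · obtain ⟨W, hW0, hW1, hW⟩ := hred
    let ρW : Representation (ZMod 2) G W :=
      { toFun := fun x => (ρ x).restrict (hW x)
        map_one' := LinearMap.ext fun w => Subtype.ext (by show ρ 1 w.1 = w.1; rw [map_one]; rfl)
        map_mul' := fun x y => LinearMap.ext fun w => Subtype.ext (by
          show ρ (x * y) w.1 = ρ x (ρ y w.1); rw [map_mul]; rfl) }
    let ρQ : Representation (ZMod 2) G (V ⧸ W) :=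
      { toFun := fun x => W.mapQ W (ρ x) (hW x)
        map_one' := Submodule.linearMap_qext _ (LinearMap.ext fun w => by
          show W.mkQ (ρ 1 w) = W.mkQ w; rw [map_one]; rfl)
        map_mul' := fun x y => Submodule.linearMap_qext _ (LinearMap.ext fun w => by
          show W.mkQ (ρ (x * y) w) = W.mkQ (ρ x (ρ y w)); rw [map_mul]; rfl) }
    have hdimW : finrank (ZMod 2) W < d := hd ▸ Submodule.finrank_lt hW1
    have hdimQ : finrank (ZMod 2) (V ⧸ W) < d := by
      have h1 := W.finrank_quotient_add_finrank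
      have h2 : 0 < finrank (ZMod 2) W := by
        haveI := (Submodule.nontrivial_iff_ne_bot).2 hW0
        exact Module.finrank_pos
      omega
    have hsum := W.finrank_quotient_add_finrank
    haveI : Finite (V ⧸ W) := Finite.of_surjective _ W.mkQ_surjective
    have hF := LinearMap.finrank_range_add_finrank_ker (W.mkQ.domRestrict (SquareBound.fix ρ A))
    by_cases hgW : ρW g = 1
    · have hgQ : ρQ g ≠ 1 := by
        intro hgQ
        apply hρg
        refine LinearMap.ext fun v => ?_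
        have hu : ρ g v - v ∈ W := by
          rw [← Submodule.Quotient.eq]
          exact LinearMap.congr_fun hgQ (Submodule.Quotient.mk v)
        have hgu : ρ g (ρ g v - v) = ρ g v - v := congrArg Subtype.val (LinearMap.congr_fun hgW ⟨_, hu⟩)
        have hpow : ∀ i : ℕ, ρ (g ^ i) v = v + i • (ρ g v - v) := by
          intro i
          induction i with
          | zero => simp
          | succ i ih =>
            rw [pow_succ', map_mul, Module.End.mul_apply, ih, map_add, map_nsmul, hgu, succ_nsmul']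
            abel
        have h1 := hpow (orderOf g)
        rw [pow_orderOf_eq_one, map_one, Module.End.one_apply, left_eq_add] at h1
        obtain ⟨j, hj⟩ := hg
        rw [hj, add_nsmul, one_nsmul, mul_nsmul, ← Nat.cast_smul_eq_nsmul (ZMod 2) 2,
          show ((2 : ℕ) : ZMod 2) = 0 from rfl, zero_smul, nsmul_zero, zero_add, sub_eq_zero] at h1
        exact h1
      obtain ⟨h1, h2⟩ := ih _ hdimQ (V ⧸ W) ρQ g rfl hg hgQ
      refine ⟨?_, h2.trans ?_⟩
      · have hr : LinearMap.range (W.mkQ.domRestrict (SquareBound.fix ρ A)) ≤ SquareBound.fix ρQ A := by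
          rintro _ ⟨⟨v, hv⟩, rfl⟩
          exact (SquareBound.mem_fix _).2 fun a ha => congrArg W.mkQ ((SquareBound.mem_fix _).1 hv a ha)
        have hker : finrank (ZMod 2) (LinearMap.ker (W.mkQ.domRestrict (SquareBound.fix ρ A))) ≤ finrank (ZMod 2) W :=
          LinearMap.finrank_le_finrank_of_injective
            (f := ((SquareBound.fix ρ A).subtype.comp (LinearMap.ker _).subtype).codRestrict W fun x =>
              (Submodule.Quotient.mk_eq_zero W).1 (show W.mkQ x.1.1 = 0 from LinearMap.mem_ker.1 x.2))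
            (fun x y h => Subtype.ext (Subtype.ext (by simpa using congrArg Subtype.val h)))
        have := Submodule.finrank_mono hr
        omega
      · refine (Submodule.finrank_mono ?_).trans (Submodule.finrank_map_le W.mkQ _)
        refine iSup_le fun a => ?_
        rintro _ ⟨q, rfl⟩
        obtain ⟨v, rfl⟩ := Submodule.mkQ_surjective W q
        exact ⟨ρ a v - v, le_iSup (fun a : A => LinearMap.range (ρ a - 1)) a ⟨v, rfl⟩, by rw [map_sub]; rfl⟩
    · obtain ⟨h1, h2⟩ := ih _ hdimW W ρW g rfl hg hgW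
      refine ⟨?_, h2.trans ?_⟩
      · have hker : finrank (ZMod 2) (LinearMap.ker (W.mkQ.domRestrict (SquareBound.fix ρ A))) ≤
            finrank (ZMod 2) (SquareBound.fix ρW A) :=
          LinearMap.finrank_le_finrank_of_injective
            (f := (((SquareBound.fix ρ A).subtype.comp (LinearMap.ker _).subtype).codRestrict W fun x =>
              (Submodule.Quotient.mk_eq_zero W).1 (show W.mkQ x.1.1 = 0 from LinearMap.mem_ker.1 x.2)).codRestrict (SquareBound.fix ρW A) fun x =>
                (SquareBound.mem_fix _).2 fun a ha => Subtype.ext ((SquareBound.mem_fix _).1 x.1.2 a ha))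
            (fun x y h => Subtype.ext (Subtype.ext (by
              simpa using congrArg (fun z => ((z.1 : W) : V)) h)))
        have hr := (LinearMap.range (W.mkQ.domRestrict (SquareBound.fix ρ A))).finrank_le
        omega
      · rw [← Submodule.finrank_map_subtype_eq W (SquareBound.comm ρW A)]
        refine Submodule.finrank_mono ?_
        rw [Submodule.map_le_iff_le_comap]
        refine iSup_le fun a => ?_
        rintro _ ⟨w, rfl⟩
        exact le_iSup (fun a : A => LinearMap.range (ρ a - 1)) a ⟨w.1, rfl⟩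
  push Not at hred
  set N := ρ.ker
  have hP : ∀ P : Subgroup G, P.Normal → N ≤ P → (∀ x ∈ P, ∃ k : ℕ, x ^ 2 ^ k ∈ N) → P ≤ N := by
    intro P hPn hNP hP2
    set f := QuotientGroup.mk' N
    let σ : Representation (ZMod 2) (G ⧸ N) V := QuotientGroup.lift N ρ le_rfl
    have hσf : ∀ x, σ (f x) = ρ x := fun x => rfl
    have hPbar : IsPGroup 2 ↥(P.map f) := by
      rintro ⟨_, x, hx, rfl⟩
      obtain ⟨k, hk⟩ := hP2 x hx
      exact ⟨k, Subtype.ext (by
        rw [SubmonoidClass.coe_pow, Subgroup.coe_one, ← map_pow]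
        exact (QuotientGroup.eq_one_iff _).2 hk)⟩
    haveI : Nontrivial V := by
      by_contra hV
      rw [not_nontrivial_iff_subsingleton] at hV
      exact hρg (Subsingleton.elim _ _)
    letI : MulAction ↥(P.map f) V :=
      { smul := fun b v => σ b v
        one_smul := fun v => by show σ ((1 : ↥(P.map f)) : G ⧸ N) v = v; simp
        mul_smul := fun a b v => by
          show σ ((a * b : ↥(P.map f)) : G ⧸ N) v = σ a (σ b v); simp [map_mul] }
    have hdvd : 2 ∣ Nat.card V := by
      rw [Module.natCard_eq_pow_finrank (K := ZMod 2), Nat.card_zmod]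
      exact dvd_pow_self 2 (Module.finrank_pos).ne'
    have h0 : (0 : V) ∈ MulAction.fixedPoints ↥(P.map f) V := fun b => map_zero (σ b)
    obtain ⟨v, hv, hv0⟩ := hPbar.exists_fixed_point_of_prime_dvd_card_of_fixed_point V hdvd h0
    set W := SquareBound.fix ρ P
    have hvW : v ∈ W := (SquareBound.mem_fix _).2 fun x hx => hv ⟨f x, x, hx, rfl⟩
    have hWinv : ∀ x : G, ∀ w ∈ W, ρ x w ∈ W := fun x w hw => (SquareBound.mem_fix _).2 fun p hp => by
      rw [← Module.End.mul_apply, ← map_mul, show p * x = x * (x⁻¹ * p * x) by group, map_mul,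
        Module.End.mul_apply, (SquareBound.mem_fix _).1 hw _ (by simpa using hPn.conj_mem p hp x⁻¹)]
    have hWne : W ≠ ⊥ := fun h => hv0 ((Submodule.mem_bot _).1 (h ▸ hvW)).symm
    have hWtop : W = ⊤ := by
      by_contra hne
      obtain ⟨x, w, hw, hxw⟩ := hred W hWne hne
      exact hxw (hWinv x w hw)
    exact fun x hx => MonoidHom.mem_ker.2 (LinearMap.ext fun w =>
      (SquareBound.mem_fix _).1 (hWtop ▸ Submodule.mem_top : w ∈ W) x hx)
  have hQN : Cfsg.pCore 2 G ≤ N := by
    haveI := CfsgLib.Solvable.pCore_normal (p := 2) G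
    refine le_sup_left.trans (hP (Cfsg.pCore 2 G ⊔ N) inferInstance le_sup_right fun x hx => ?_)
    change x ∈ (↑(Cfsg.pCore 2 G ⊔ N) : Set G) at hx
    rw [Subgroup.normal_mul] at hx
    obtain ⟨a, ha, b, hb, rfl⟩ := hx
    obtain ⟨k, hk⟩ := CfsgLib.Solvable.pCore_isPGroup (p := 2) G ⟨a, ha⟩
    refine ⟨k, (QuotientGroup.eq_one_iff _).1 ?_⟩
    rw [QuotientGroup.mk_pow, QuotientGroup.mk_mul, (QuotientGroup.eq_one_iff b).2 hb, mul_one,
      ← QuotientGroup.mk_pow, show a ^ 2 ^ k = 1 from congrArg Subtype.val hk]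
    rfl
  have hAN : A ⊓ N = A ⊓ Cfsg.pCore 2 G := by
    refine le_antisymm (le_inf inf_le_left ((hdich N inferInstance).resolve_left fun h => ?_))
      (inf_le_inf_left _ hQN)
    obtain ⟨k, hk⟩ := h g
    exact hρg (MonoidHom.mem_ker.1 (mem_of_two_pow_mem hg hk))
  exact base_bound hS hK ρ hP (CfsgLib.PLocal.isEA_map hA _) (by rw [hAN]; exact hn)

end

end CfsgLib.TwoFact
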