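import Cfsg.Agent.Lib.TwoFact.KFree
import Cfsg.Agent.Lib.LocalEven.ThompsonA
import Cfsg.Agent.Lib.Solvable.Core

/-!
# No section `S₃` in `S₄`-free groups of characteristic two
-/

set_option autoImplicit false
set_option linter.style.haveILetI false

namespace CfsgLib.TwoFact

open Subgroup CfsgLib.LocalEven

/-- A normal 2-subgroup of `S₃` is trivial. -/
theorem eq_one_of_normal_two_perm_three {N : Subgroup (Equiv.Perm (Fin 3))} [N.Normal] (hN : IsPGroup 2 N)
    {x : Equiv.Perm (Fin 3)} (hx : x ∈ N) : x = 1 := by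
  by_contra hne
  obtain ⟨y, hy, hy1, hy3⟩ : ∃ y ∈ N, y ≠ 1 ∧ y ^ 3 = 1 := by
    have key : ∀ z : Equiv.Perm (Fin 3), z ≠ 1 →
        z ^ 3 = 1 ∨ ∃ g : Equiv.Perm (Fin 3), g * z * g⁻¹ * z ≠ 1 ∧ (g * z * g⁻¹ * z) ^ 3 = 1 := by
      set_option maxRecDepth 10000 in decide
    rcases key x hne with h | ⟨g, h1, h3⟩
    · exact ⟨x, hx, hne, h⟩
    · exact ⟨_, N.mul_mem (Subgroup.Normal.conj_mem inferInstance x hx g) hx, h1, h3⟩
  obtain ⟨k, hk⟩ := hN ⟨y, hy⟩
  have hk' : y ^ 2 ^ k = 1 := congrArg Subtype.val hk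
  have h1 : orderOf y ∣ Nat.gcd (2 ^ k) 3 :=
    Nat.dvd_gcd (orderOf_dvd_of_pow_eq_one hk') (orderOf_dvd_of_pow_eq_one hy3)
  rw [Nat.Coprime.gcd_eq_one (Nat.Coprime.pow_left _ (by norm_num)), Nat.dvd_one, orderOf_eq_one_iff] at h1
  exact hy1 h1

variable {G : Type*} [Group G]

/-- `G` has no section `S₃`. -/
def S3Free (G : Type*) [Group G] : Prop := ¬ Cfsg.Involves (Equiv.Perm (Fin 3)) G

theorem S3Free.subgroup (h : S3Free G) (H : Subgroup G) : S3Free H :=
  fun hH => h (ThompsonA.involves_of_injective H.subtype H.subtype_injective hH)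

theorem S3Free.quotient (h : S3Free G) {X : Type*} [Group X] (f : G →* X) (hf : Function.Surjective f) :
    S3Free X :=
  fun hX => h (ThompsonA.involves_of_quotient f hf hX)

theorem involves_of_two_kernel {X : Type*} [Group X] (φ : G →* X) (hker : IsPGroup 2 φ.ker)
    (h : Cfsg.Involves (Equiv.Perm (Fin 3)) G) : Cfsg.Involves (Equiv.Perm (Fin 3)) X := by
  obtain ⟨K, f, hf⟩ := exists_surjective_of_involves h
  set g : K →* ↥(K.map φ) := φ.subgroupMap K
  have hg : Function.Surjective g := φ.subgroupMap_surjective K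
  have hle : g.ker ≤ f.ker := by
    haveI : (g.ker.map f).Normal := Subgroup.Normal.map inferInstance f hf
    have h2 : IsPGroup 2 ↥(g.ker.map f) := by
      refine IsPGroup.map ?_ f
      intro x
      obtain ⟨k, hk⟩ := hker ⟨x.1.1, MonoidHom.mem_ker.2 (congrArg Subtype.val (MonoidHom.mem_ker.1 x.2))⟩
      exact ⟨k, Subtype.ext (Subtype.ext (by simpa using congrArg Subtype.val hk))⟩
    exact fun x hx => MonoidHom.mem_ker.2 (eq_one_of_normal_two_perm_three h2 ⟨x, hx, rfl⟩)
  refine involves_of_surjective (K.map φ) (g.liftOfSurjective hg ⟨f, hle⟩) fun y => ?_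
  obtain ⟨x, rfl⟩ := hf y
  exact ⟨g x, MonoidHom.liftOfRightInverse_comp_apply g _ (Function.rightInverse_surjInv hg) ⟨f, hle⟩ x⟩

/-- An `S₄`-free group of characteristic two has no section `S₃`. -/
theorem s3Free_of_sFourFree [Finite G]
    (hchar : centralizer (Cfsg.pCore 2 G : Set G) ≤ Cfsg.pCore 2 G)
    (hfree : ¬ Cfsg.Involves (Equiv.Perm (Fin 4)) G) : S3Free G := by
  intro h
  set Q := Cfsg.pCore 2 G
  haveI : Q.Normal := CfsgLib.Solvable.pCore_normal (p := 2) G
  have hQ : IsPGroup 2 Q := CfsgLib.Solvable.pCore_isPGroup (p := 2) G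
  refine hfree (Cfsg.Agent.S2759.backward Q hQ ?_)
  set N := normalizer (Q : Set G)
  let φ : G →* ↥N ⧸ (centralizer (Q : Set G)).subgroupOf N :=
    (QuotientGroup.mk' _).comp ((MonoidHom.id G).codRestrict N fun g => by
      show g ∈ normalizer (Q : Set G)
      rw [Subgroup.normalizer_eq_top]; exact mem_top g)
  refine involves_of_two_kernel φ (hQ.to_le fun g hg => hchar ?_) h
  exact Subgroup.mem_subgroupOf.1 ((QuotientGroup.eq_one_iff _).1 (MonoidHom.mem_ker.1 hg :))

end CfsgLib.TwoFact
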